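import Groth.Agent.AlgSp.K616.DimInv
import Groth.Agent.AlgSp.K597.EtLoc
import Groth.Agent.S2768

/-!
# Smooth morphisms of constant relative dimension as an étale local property

* `K393.RelDimP.SmRel c`: smooth morphisms all of whose fibres have dimension `c` at every point.
* `etLoc_smRel`, stability under base change; `smRel_of` from `SmoothOfRelativeDimension`.
-/

set_option autoImplicit false

universe u

open CategoryTheory CategoryTheory.Limits AlgebraicGeometry

namespace K393.RelDimP

/-- Smooth morphisms all of whose fibres have dimension `c` at every point. -/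
def SmRel (c : ℕ) : MorphismProperty Scheme.{u} := fun _ _ f => Smooth f ∧ ∀ x, FlatMor.fibreDimAt f x = c

theorem smRel_of {c : ℕ} {X Y : Scheme.{u}} (f : X ⟶ Y) (h : SmoothOfRelativeDimension c f) : SmRel c f :=
  ⟨SmoothOfRelativeDimension.smooth c f, Groth.Agent.S2768.result c f⟩

theorem etLoc_smRel (c : ℕ) : K597.EtLoc (SmRel.{u} c) where
  precomp A B C e f he hf := by
    obtain ⟨h1, h2⟩ := hf
    exact ⟨inferInstance, fun x => by rw [K616.DimInv.fibreDimAt_comp_of_etale e f x, h2]⟩
  postcomp A B C f e he hf := by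
    obtain ⟨h1, h2⟩ := hf
    refine ⟨inferInstance, fun x => ?_⟩
    have := K616.DimInv.fibreDimAt_square (f ≫ e) f (𝟙 A) e (by simp) x
    rw [← h2 x, ← this]
    rfl
  cancel A B C f e he hf := by
    obtain ⟨h1, h2⟩ := hf
    have hsm : Smooth f := K597.etLoc_smooth.cancel f e he h1
    refine ⟨hsm, fun x => ?_⟩
    have := K616.DimInv.fibreDimAt_square (f ≫ e) f (𝟙 A) e (by simp) x
    rw [← h2 x, ← this]
    rfl
  descend' B C f h := by
    refine ⟨K597.etLoc_smooth.descend' f fun b => ?_, fun b => ?_⟩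
    · obtain ⟨A, e, he, hb, h1, -⟩ := h b
      exact ⟨A, e, he, hb, h1⟩
    · obtain ⟨A, e, he, ⟨a, rfl⟩, h1, h2⟩ := h b
      rw [← K616.DimInv.fibreDimAt_comp_of_etale e f a, h2]

instance (c : ℕ) : (SmRel.{u} c).IsStableUnderBaseChange where
  of_isPullback {X Y Y' S f g f' g'} sq hg := by
    obtain ⟨h1, h2⟩ := hg
    refine ⟨MorphismProperty.of_isPullback (P := @Smooth) sq h1, fun x => ?_⟩
    have h3 : LocallyOfFiniteType g := inferInstance
    rw [Groth.Agent.Ega4fib.H172.FibDimBC.fibreDimAt_of_isPullback sq x, h2]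

end K393.RelDimP
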