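import Groth.Agent.Fano.K393.Roof
import Groth.Agent.Fano.K393.RelDimP
import Groth.Agent.Fano.K705.StGen
import Groth.Agent.AlgSt.K736.QC

/-!
# Charts of a category fibred in groupoids given by objects with local products

For an object `A` of `𝒳` (over the scheme `𝒳.p.obj A`):

* `cls h𝒳 A v`: the point of `|𝒳|` defined by the point `v` of the base of `A`.
* `mk_eq_cls`, `cls_map`, `cls_eq_iff`: computation of these points.
* `HasProd P A`: the product of `A` with every object `Y` exists étale locally on the base of `Y`, with property `P` of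
  the projection.
* `repByAlgSpWith_chart`: then the chart functor of `A` is representable with `P`.
* `continuous_cls`, `isOpenMap_cls`: if `P` implies smooth.
* `exists_roof`: correspondences between two charts.
* `exists_fibre`: the set of points of the base of `A` equivalent to a point of the base of `Y`.
-/

set_option autoImplicit false
set_option backward.isDefEq.respectTransparency false
set_option backward.isDefEq.respectTransparency.types false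

universe w u

open CategoryTheory CategoryTheory.Limits AlgebraicGeometry Opposite

namespace K393.ObjChart

open AlgSt K735.Fib K735.Fp K748.El K705.StGen

variable {S : Scheme.{u}} {𝒳 : BasedCategory.{u, w} (Over S)}

section Cls

variable (h𝒳 : FibCat.IsFibGrpd 𝒳.p)

/-- The chart functor of an object. -/
noncomputable def chart (A : 𝒳.obj) : FibCat.overCat (𝒳.p.obj A) ⥤ᵇ 𝒳 := K736.Fib.ofObj h𝒳 A (𝟙 (𝒳.p.obj A))

/-- The value of the chart functor at the identity is the object. -/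
noncomputable def toA (A : 𝒳.obj) : (chart h𝒳 A).obj (Over.mk (𝟙 (𝒳.p.obj A))) ⟶ A :=
  K736.Fib.ofObjHom h𝒳 A (𝟙 (𝒳.p.obj A)) (Over.mk (𝟙 (𝒳.p.obj A)))

theorem map_toA (A : 𝒳.obj) : 𝒳.p.map (toA h𝒳 A) = eqToHom ((chart h𝒳 A).w_obj (Over.mk (𝟙 (𝒳.p.obj A)))) := by
  refine (K736.Fib.map_ofObjHom h𝒳 A (𝟙 (𝒳.p.obj A)) (Over.mk (𝟙 (𝒳.p.obj A)))).trans ?_
  have h : (Over.mk (𝟙 (𝒳.p.obj A))).hom ≫ 𝟙 (𝒳.p.obj A) = 𝟙 (𝒳.p.obj A) := Category.comp_id _
  rw [h]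
  exact Category.comp_id _

instance isIso_toA (A : 𝒳.obj) : IsIso (toA h𝒳 A) := by
  have : IsIso (𝒳.p.map (toA h𝒳 A)) := by
    rw [map_toA]
    infer_instance
  exact K736.Fib.isIso_of_isIso_map h𝒳 _

theorem map_comp_inv_toA {Z A : 𝒳.obj} (α : Z ⟶ A) :
    𝒳.p.map (α ≫ inv (toA h𝒳 A)) ≫ eqToHom ((chart h𝒳 A).w_obj (Over.mk (𝟙 (𝒳.p.obj A)))) = 𝒳.p.map α := by
  rw [← map_toA, ← Functor.map_comp, Category.assoc, IsIso.inv_hom_id, Category.comp_id]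

theorem map_comp_toA {Z A : 𝒳.obj} (α : Z ⟶ (chart h𝒳 A).obj (Over.mk (𝟙 (𝒳.p.obj A)))) :
    𝒳.p.map α ≫ eqToHom ((chart h𝒳 A).w_obj (Over.mk (𝟙 (𝒳.p.obj A)))) = 𝒳.p.map (α ≫ toA h𝒳 A) := by
  rw [← map_toA, ← Functor.map_comp]

/-- The point of `|𝒳|` defined by a point of the base of an object. -/
noncomputable def cls (A : 𝒳.obj) (v : (𝒳.p.obj A).left) : AlgSt.Points 𝒳 := AlgSt.Points.ofChart (chart h𝒳 A) v

/-- A morphism from a field valued point to `A` computes its class. -/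
theorem mk_eq_cls {A : 𝒳.obj} (p : AlgSt.FPt 𝒳) (θ : p.obj ⟶ A) (z : (𝒳.p.obj p.obj).left) :
    AlgSt.Points.mk p = cls h𝒳 A ((𝒳.p.map θ).left z) := by
  have h := K705.StGen.mk_eq_ofChart (chart h𝒳 A) h𝒳 p (θ ≫ inv (toA h𝒳 A)) z
  rw [map_comp_inv_toA h𝒳 θ] at h
  exact h

theorem nonempty_left (p : AlgSt.FPt 𝒳) : Nonempty (𝒳.p.obj p.obj).left := by
  have h : ∀ (B : Over S), B = Over.mk p.str → Nonempty B.left := by
    rintro B rfl
    exact inferInstanceAs (Nonempty (PrimeSpectrum p.K))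
  exact h _ p.lies

theorem subsingleton_left (p : AlgSt.FPt 𝒳) : Subsingleton (𝒳.p.obj p.obj).left := by
  have h : ∀ (B : Over S), B = Over.mk p.str → Subsingleton B.left := by
    rintro B rfl
    exact inferInstanceAs (Subsingleton (PrimeSpectrum p.K))
  exact h _ p.lies

theorem key {U : Over S} (X : FibCat.overCat U ⥤ᵇ 𝒳) (w : U.left) (r : AlgSt.FPt 𝒳)
    (a : r.obj ⟶ X.obj (Over.mk (Over.homMk (U.left.fromSpecResidueField w) rfl :
      Over.mk (U.left.fromSpecResidueField w ≫ U.hom) ⟶ U))) (z : (𝒳.p.obj r.obj).left) :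
    (𝒳.p.map (a ≫ X.map (toId _)) ≫ eqToHom (X.w_obj (Over.mk (𝟙 U)))).left z = w := by
  rw [Functor.map_comp, map_map]
  change ((𝒳.p.map a ≫ eqToHom _ ≫ (Over.homMk (U.left.fromSpecResidueField w) rfl :
    Over.mk (U.left.fromSpecResidueField w ≫ U.hom) ⟶ U) ≫ eqToHom _) ≫ eqToHom _).left z = w
  rw [Category.assoc, Category.assoc, Category.assoc, eqToHom_trans, eqToHom_refl, Category.comp_id,
    ← Category.assoc, Over.comp_left, Scheme.Hom.comp_apply]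
  exact Scheme.fromSpecResidueField_apply _ _

/-- Equality of points of `|𝒳|` coming from two objects. -/
theorem cls_eq_iff (A A' : 𝒳.obj) (v : (𝒳.p.obj A).left) (v' : (𝒳.p.obj A').left) :
    cls h𝒳 A v = cls h𝒳 A' v' ↔ ∃ (r : AlgSt.FPt 𝒳) (α : r.obj ⟶ A) (α' : r.obj ⟶ A'),
      (∀ z, (𝒳.p.map α).left z = v) ∧ (∀ z, (𝒳.p.map α').left z = v') := by
  constructor
  · intro h
    obtain ⟨r, a, b, -⟩ := (K735.Pts.mk_eq_mk_iff h𝒳).1 h
    refine ⟨r, (a ≫ (chart h𝒳 A).map (toId _)) ≫ toA h𝒳 A, (b ≫ (chart h𝒳 A').map (toId _)) ≫ toA h𝒳 A',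
      fun z => ?_, fun z => ?_⟩
    · rw [← map_comp_toA]
      exact key (chart h𝒳 A) v r a z
    · rw [← map_comp_toA]
      exact key (chart h𝒳 A') v' r b z
  · rintro ⟨r, α, α', h, h'⟩
    obtain ⟨z⟩ := nonempty_left r
    rw [← h z, ← h' z, ← mk_eq_cls h𝒳 r α z, ← mk_eq_cls h𝒳 r α' z]

include h𝒳 in
/-- Every point of the base of an object comes from a field valued point. -/
theorem exists_fpt (A : 𝒳.obj) (v : (𝒳.p.obj A).left) :
    ∃ (r : AlgSt.FPt 𝒳) (α : r.obj ⟶ A), ∀ z, (𝒳.p.map α).left z = v := by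
  obtain ⟨r, α, -, h, -⟩ := (cls_eq_iff h𝒳 A A v v).mp rfl
  exact ⟨r, α, h⟩

theorem cls_map {A A' : 𝒳.obj} (f : A ⟶ A') (v : (𝒳.p.obj A).left) :
    cls h𝒳 A' ((𝒳.p.map f).left v) = cls h𝒳 A v := by
  obtain ⟨r, α, h⟩ := exists_fpt h𝒳 A v
  obtain ⟨z⟩ := nonempty_left r
  rw [← h z, ← mk_eq_cls h𝒳 r α z, mk_eq_cls h𝒳 r (α ≫ f) z, Functor.map_comp, Over.comp_left,
    Scheme.Hom.comp_apply]

end Cls

section Prod

/-- The product of `A` with every object exists étale locally on the base of the object, with property `P` of the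
projection. -/
def HasProd (P : MorphismProperty Scheme.{u}) (A : 𝒳.obj) : Prop :=
  ∀ (Y : 𝒳.obj) (t : (𝒳.p.obj Y).left), ∃ (Y' : 𝒳.obj) (g : Y' ⟶ Y) (t' : (𝒳.p.obj Y').left) (Z : 𝒳.obj)
    (α : Z ⟶ A) (β : Z ⟶ Y'), Etale (𝒳.p.map g).left ∧ (𝒳.p.map g).left t' = t ∧
    (∀ (Z' : 𝒳.obj) (a : Z' ⟶ A) (b : Z' ⟶ Y'), ∃! z : Z' ⟶ Z, z ≫ α = a ∧ z ≫ β = b) ∧ P (𝒳.p.map β).left

theorem HasProd.mono {P Q : MorphismProperty Scheme.{u}} (h : ∀ ⦃X Y : Scheme.{u}⦄ (f : X ⟶ Y), P f → Q f)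
    {A : 𝒳.obj} (hA : HasProd P A) : HasProd Q A := by
  intro Y t
  obtain ⟨Y', g, t', Z, α, β, h1, h2, h3, h4⟩ := hA Y t
  exact ⟨Y', g, t', Z, α, β, h1, h2, h3, h _ h4⟩

/-- The fibre product is represented by the base of the product. -/
theorem repAt_of_product {P : MorphismProperty Scheme.{u}} [P.IsStableUnderBaseChange] (hP : K597.EtLoc P)
    (h𝒵 : FibCat.IsFibGrpd 𝒳.p) {B U : Over S} {y : FibCat.overCat B ⥤ᵇ 𝒳} {p : FibCat.overCat U ⥤ᵇ 𝒳}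
    {Z : 𝒳.obj} (α : Z ⟶ p.obj (ob (𝟙 U))) (β : Z ⟶ y.obj (ob (𝟙 B)))
    (H : ∀ (Z' : 𝒳.obj) (a : Z' ⟶ p.obj (ob (𝟙 U))) (b : Z' ⟶ y.obj (ob (𝟙 B))),
      ∃! z : Z' ⟶ Z, z ≫ α = a ∧ z ≫ β = b) (hβ : P (𝒳.p.map β).left) :
    K739.Rep.RepAt (AlgSp.LocP P) (FibCat.fpFst y p) := by
  obtain ⟨i, hi⟩ := exists_iso h𝒵 α β H
  refine (K739.Rep.repAt_iff_repPsh _ _ (isEquivOver_toFpF h𝒵)).2 ?_
  rw [prMap_toFpF]
  refine ⟨⟨(AlgSp.yon S).obj (𝒳.p.obj Z), AlgSp.IsAlgSpace.yon_obj _⟩, i, ?_⟩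
  rw [hi]
  refine K597.locP_of_repWith hP.precomp ((AlgSp.repWith_yon_map_iff P (toB y β)).2 ?_)
  have : IsIso (eqToHom (y.w_obj (ob (𝟙 B)))).left := inferInstance
  change P ((𝒳.p.map β).left ≫ (eqToHom (y.w_obj (ob (𝟙 B)))).left)
  exact hP.postcomp _ _ inferInstance hβ

/-- A chart all of whose products with objects of the category (etale locally on the base of the object) exist and have a
projection with `P` is representable with `P`. -/
theorem repByAlgSpWith_of_products {P : MorphismProperty Scheme.{u}} [P.IsStableUnderBaseChange] (hP : K597.EtLoc P)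
    {U : Over S} (X : FibCat.overCat U ⥤ᵇ 𝒳) (hs : Stk.IsPrestack (AlgSp.J S) 𝒳)
    (H : HasProd P (X.obj (Over.mk (𝟙 U)))) :
    AlgSt.RepByAlgSpWith (AlgSp.LocP P) X := by
  refine K742.Atlas0.repByAlgSpWith_of_local_base hs hP X fun T y t => ?_
  have e : T = 𝒳.p.obj (y.obj (ob (𝟙 T))) := (y.w_obj (ob (𝟙 T))).symm
  obtain ⟨Y', g, t', Z, α, β, hg, ht', hZ, hβ⟩ := H (y.obj (ob (𝟙 T))) ((eqToHom e).left t)
  refine ⟨𝒳.p.obj Y', toB y g, t', ?_, ?_, ?_⟩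
  · have : IsIso (eqToHom (y.w_obj (ob (𝟙 T)))).left := inferInstance
    change Etale ((𝒳.p.map g).left ≫ (eqToHom (y.w_obj (ob (𝟙 T)))).left)
    infer_instance
  · change ((𝒳.p.map g).left ≫ (eqToHom (y.w_obj (ob (𝟙 T)))).left) t' = t
    rw [Scheme.Hom.comp_apply, ht', ← Scheme.Hom.comp_apply, ← Over.comp_left, eqToHom_trans, eqToHom_refl]
    rfl
  · obtain ⟨c, hc, hc'⟩ := exists_vert hs.1 g
    have hvc : Vert 𝒳.p c := vert_of_map_eq _ hc
    have hv1 : Vert 𝒳.p (y.map (ar (𝟙 (𝒳.p.obj Y')) rfl : ob (𝟙 (𝒳.p.obj Y') ≫ toB y g) ⟶ ob (toB y g))) := by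
      rw [vert_map_iff]
      exact vert_of_map_eq rfl rfl
    let κ : (BasedFunctor.comp (AlgSt.overMap (toB y g)) y).obj (ob (𝟙 (𝒳.p.obj Y'))) ⟶ Y' :=
      y.map (ar (𝟙 (𝒳.p.obj Y')) rfl : ob (𝟙 (𝒳.p.obj Y') ≫ toB y g) ⟶ ob (toB y g)) ≫ c
    have hκ : Vert 𝒳.p κ := hv1.comp hvc
    have := hκ.isIso hs.1
    refine repAt_of_product hP hs.1 (y := BasedFunctor.comp (AlgSt.overMap (toB y g)) y) (p := X) α (β ≫ inv κ) ?_ ?_
    · intro Z' a b
      obtain ⟨z, ⟨h1, h2⟩, h3⟩ := hZ Z' a (b ≫ κ)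
      refine ⟨z, ⟨h1, by rw [← Category.assoc, h2, Category.assoc, IsIso.hom_inv_id, Category.comp_id]⟩, ?_⟩
      rintro z' ⟨h4, h5⟩
      refine h3 z' ⟨h4, ?_⟩
      rw [← h5, Category.assoc, Category.assoc, IsIso.inv_hom_id, Category.comp_id]
    · rw [Functor.map_comp, Over.comp_left]
      have : IsIso (𝒳.p.map (inv κ)).left := inferInstance
      exact hP.postcomp _ _ inferInstance hβ

/-- Products with `A` give products with the value of the chart functor. -/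
theorem HasProd.of_iso {P : MorphismProperty Scheme.{u}} {A A' : 𝒳.obj} (e : A' ⟶ A) [IsIso e] (h : HasProd P A) :
    HasProd P A' := by
  intro Y t
  obtain ⟨Y', g, t', Z, α, β, h1, h2, h3, h4⟩ := h Y t
  refine ⟨Y', g, t', Z, α ≫ inv e, β, h1, h2, fun Z' a b => ?_, h4⟩
  obtain ⟨z, ⟨e1, e2⟩, hz⟩ := h3 Z' (a ≫ e) b
  refine ⟨z, ⟨?_, e2⟩, fun z' hz' => hz z' ⟨?_, hz'.2⟩⟩
  · rw [← Category.assoc, e1, Category.assoc, IsIso.hom_inv_id, Category.comp_id]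
  · rw [← hz'.1, Category.assoc, Category.assoc, IsIso.inv_hom_id, Category.comp_id]

theorem repByAlgSpWith_chart {P : MorphismProperty Scheme.{u}} [P.IsStableUnderBaseChange] (hP : K597.EtLoc P)
    (hs : Stk.IsPrestack (AlgSp.J S) 𝒳) {A : 𝒳.obj} (H : HasProd P A) :
    AlgSt.RepByAlgSpWith (AlgSp.LocP P) (chart hs.1 A) :=
  repByAlgSpWith_of_products hP (chart hs.1 A) hs (H.of_iso (toA hs.1 A))

theorem continuous_cls (hs : Stk.IsPrestack (AlgSp.J S) 𝒳) {A : 𝒳.obj} (H : HasProd (𝒳 := 𝒳) @Smooth A) :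
    Continuous (cls hs.1 A) :=
  ⟨fun _ hW => hW _ (chart hs.1 A) (repByAlgSpWith_chart K597.etLoc_smooth hs H)⟩

theorem isOpenMap_cls (hs : Stk.IsPrestack (AlgSp.J S) 𝒳) {A : 𝒳.obj} (H : HasProd (𝒳 := 𝒳) @Smooth A) :
    IsOpenMap (cls hs.1 A) :=
  K735.Top.isOpenMap_ofChart (chart hs.1 A) (K735.Top.isOpenMap_map K735.Top.isOpenMap_of_smooth hs.1
    (K736.Fib.isFibGrpd_overCat _) (K735.Top.chartCont_overCat _) (repByAlgSpWith_chart K597.etLoc_smooth hs H))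

/-- Correspondence between two charts. -/
theorem exists_roof (hs : Stk.IsPrestack (AlgSp.J S) 𝒳) {P Q : MorphismProperty Scheme.{u}}
    [P.IsStableUnderBaseChange] (hP : K597.EtLoc P) [Q.IsStableUnderBaseChange] (hQ : K597.EtLoc Q) {A B : 𝒳.obj}
    (HA : HasProd P A) (HB : HasProd Q B) :
    ∃ (Z : Over S) (p : Z ⟶ 𝒳.p.obj A) (q : Z ⟶ 𝒳.p.obj B), Q p.left ∧ P q.left ∧
      ∀ (v : (𝒳.p.obj A).left) (b : (𝒳.p.obj B).left), cls hs.1 A v = cls hs.1 B b ↔ ∃ z : Z.left, p.left z = v ∧ q.left z = b :=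
  K393.Roof.exists_roof hs.1 (repByAlgSpWith_chart hP hs HA) (repByAlgSpWith_chart hQ hs HB)

/-- The points of the base of `A` equivalent to a given point of the base of an object. -/
theorem exists_fibre (h𝒳 : FibCat.IsFibGrpd 𝒳.p) {P : MorphismProperty Scheme.{u}} {A : 𝒳.obj} (HA : HasProd P A)
    (Y : 𝒳.obj) (t : (𝒳.p.obj Y).left) : ∃ (Y' : 𝒳.obj) (g : Y' ⟶ Y) (t' : (𝒳.p.obj Y').left) (Z : 𝒳.obj)
      (α : Z ⟶ A) (β : Z ⟶ Y'), Etale (𝒳.p.map g).left ∧ (𝒳.p.map g).left t' = t ∧ P (𝒳.p.map β).left ∧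
      ∀ v : (𝒳.p.obj A).left, cls h𝒳 A v = cls h𝒳 Y t ↔
        ∃ z : (𝒳.p.obj Z).left, (𝒳.p.map α).left z = v ∧ (𝒳.p.map β).left z = t' := by
  obtain ⟨Y', g, t', Z, α, β, h1, h2, h3, h4⟩ := HA Y t
  refine ⟨Y', g, t', Z, α, β, h1, h2, h4, fun v => ⟨fun h => ?_, ?_⟩⟩
  · rw [← h2, cls_map] at h
    obtain ⟨r, a, b, ha, hb⟩ := (cls_eq_iff h𝒳 A Y' v t').mp h
    obtain ⟨z, ⟨hz1, hz2⟩, -⟩ := h3 r.obj a b
    obtain ⟨x⟩ := nonempty_left r
    refine ⟨(𝒳.p.map z).left x, ?_, ?_⟩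
    · rw [← Scheme.Hom.comp_apply, ← Over.comp_left, ← Functor.map_comp, hz1, ha]
    · rw [← Scheme.Hom.comp_apply, ← Over.comp_left, ← Functor.map_comp, hz2, hb]
  · rintro ⟨z, rfl, hz⟩
    rw [cls_map, ← h2, cls_map, ← hz, cls_map]

end Prod

end K393.ObjChart
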