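import Groth.Agent.Fano.K393.DimTop
import Groth.Agent.S2768

/-!
# Dimension of the target of open maps from schemes over a field: smooth charts

Neither `T0` nor étale charts are needed.

* `krullDim_le` (d): upper bound for `dim P` from charts `V i` of dimension `≤ D + c i` all of whose fibres contain a
  point of transcendence degree `≥ c i`.
* `le_krullDim` (e): lower bound for `dim P` from a slice `S`.
* `closure_rtd_le`: the hypothesis on closures of fibres, from a Noetherian scheme mapping onto the fibre.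
* `rtd_le_of_generic` (c): dimension of `V i` from one irreducible chart `B` with dense image.
-/

set_option autoImplicit false

universe v u

open CategoryTheory AlgebraicGeometry TopologicalSpace Order Topology

namespace K393.SmoothDim

open Groth.Agent.CycB.RelDim

variable {k : Type u} [Field k]

theorem specializes_mem {P : Type*} [TopologicalSpace P] {x y : P} : x ⤳ y ↔ y ∈ closure {x} :=
  specializes_iff_mem_closure

/-- (d) The upper bound. -/
theorem krullDim_le {ι : Type v} {V : ι → Scheme.{u}} (a : ∀ i, V i ⟶ Spec (CommRingCat.of k))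
    [∀ i, LocallyOfFiniteType (a i)] {P : Type*} [TopologicalSpace P] {π : ∀ i, V i → P}
    (hc : ∀ i, Continuous (π i)) (ho : ∀ i, IsOpenMap (π i)) (hs : ∀ p : P, ∃ i, ∃ v, π i v = p) (c : ι → ℕ) (D : ℕ)
    (h1 : ∀ i (v : V i), ∃ v' : V i, π i v' = π i v ∧ ((c i : ℕ) : Cardinal.{u}) ≤ rtd (a i) v')
    (h2 : ∀ i (v : V i), rtd (a i) v ≤ ((D + c i : ℕ) : Cardinal.{u})) : topologicalKrullDim P ≤ D := by
  have hNoeth : ∀ i, IsLocallyNoetherian (V i) := fun i => LocallyOfFiniteType.isLocallyNoetherian (a i)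
  refine iSup_le fun s => ?_
  obtain ⟨p, hp⟩ := (s ⟨0, by omega⟩).isIrreducible.1
  obtain ⟨i, v, rfl⟩ := hs p
  have key : ∀ j : ℕ, ∀ hj : j ≤ s.length, ∃ y : V i, closure {π i y} = (s ⟨j, by omega⟩ : Set P) ∧
      ((c i + j : ℕ) : Cardinal.{u}) ≤ rtd (a i) y := by
    intro j
    induction j with
    | zero =>
      intro hj
      obtain ⟨y, -, hy, -⟩ := K393.OpenMap.exists_generic (hc i) (ho i) (s ⟨0, by omega⟩).isIrreducible
        (s ⟨0, by omega⟩).isClosed v hp
      obtain ⟨v', hv', hr⟩ := h1 i y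
      exact ⟨v', by rw [hv', hy], hr⟩
    | succ j ih =>
      intro hj
      obtain ⟨x, hx, hxr⟩ := ih (by omega)
      have hlt : s ⟨j, by omega⟩ < s ⟨j + 1, by omega⟩ := s.strictMono (by
        rw [Fin.lt_def]; exact Nat.lt_succ_self j)
      have hxN : π i x ∈ (s ⟨j + 1, by omega⟩ : Set P) := by
        apply (show (s ⟨j, by omega⟩ : Set P) ⊆ _ from hlt.le)
        rw [← hx]
        exact subset_closure rfl
      obtain ⟨y, hyx, hy, -⟩ := K393.OpenMap.exists_generic (hc i) (ho i) (s ⟨j + 1, by omega⟩).isIrreducible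
        (s ⟨j + 1, by omega⟩).isClosed x hxN
      refine ⟨y, hy, ?_⟩
      have hne : y ≠ x := by
        rintro rfl
        rw [hx] at hy
        exact hlt.ne (SetLike.coe_injective hy)
      have h3 := rtd_lt_of_specializes (a i) hyx hne (Subsingleton.elim (α := PrimeSpectrum k) _ _)
      obtain ⟨m, hm⟩ : ∃ m : ℕ, rtd (a i) x = m := Cardinal.lt_aleph0.mp (rtd_lt_aleph0 (a i) _)
      obtain ⟨n, hn⟩ : ∃ n : ℕ, rtd (a i) y = n := Cardinal.lt_aleph0.mp (rtd_lt_aleph0 (a i) _)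
      rw [hm] at hxr h3
      rw [hn] at h3 ⊢
      have e1 : c i + j ≤ m := by exact_mod_cast hxr
      have e2 : m < n := by exact_mod_cast h3
      have e3 : c i + (j + 1) ≤ n := by omega
      exact_mod_cast e3
  obtain ⟨y, -, hy⟩ := key s.length le_rfl
  have h4 := hy.trans (h2 i y)
  have h5 : c i + s.length ≤ D + c i := by exact_mod_cast h4
  have h6 : s.length ≤ D := by omega
  exact_mod_cast h6

/-- (e) The lower bound. -/
theorem le_krullDim {S B : Scheme.{u}} (s₀ : S ⟶ Spec (CommRingCat.of k)) [LocallyOfFiniteType s₀]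
    (b : B ⟶ Spec (CommRingCat.of k)) [LocallyOfFiniteType b] {P : Type*} [TopologicalSpace P] {π : B → P}
    (hc : Continuous π) (g : S ⟶ B) (c : ℕ)
    (e1 : ∀ s : S, ∃ b' : B, π b' = π (g s) ∧ rtd s₀ s + (c : Cardinal.{u}) ≤ rtd b b')
    (e2 : ∀ s : S, ∀ b' : B, π (g s) ⤳ π b' → rtd b b' ≤ rtd s₀ s + (c : Cardinal.{u})) :
    topologicalKrullDim S ≤ topologicalKrullDim P := by
  have hσ : Continuous (fun s : S => π (g s)) := hc.comp g.continuous
  refine Order.krullDim_le_of_strictMono (IrreducibleCloseds.map (fun s : S => π (g s)) hσ) ?_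
  intro Z Z' hZ
  refine lt_of_le_of_ne ?_ ?_
  · intro p hp
    exact closure_mono (Set.image_mono hZ.le) hp
  · intro heq
    obtain ⟨s, hs⟩ := QuasiSober.sober Z.isIrreducible Z.isClosed
    obtain ⟨s', hs'⟩ := QuasiSober.sober Z'.isIrreducible Z'.isClosed
    have hss : s' ⤳ s := hs'.specializes (hZ.le hs.mem)
    have hne : s' ≠ s := by
      rintro rfl
      apply hZ.ne
      apply SetLike.coe_injective
      rw [← hs.def, ← hs'.def]
    have hg : IsGenericPoint (π (g s)) (closure ((fun s : S => π (g s)) '' Z)) := hs.image hσ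
    have hg' : IsGenericPoint (π (g s')) (closure ((fun s : S => π (g s)) '' Z')) := hs'.image hσ
    have heq' : closure ((fun s : S => π (g s)) '' Z) = closure ((fun s : S => π (g s)) '' Z') :=
      congrArg (fun Y : IrreducibleCloseds P => (Y : Set P)) heq
    have h1 : π (g s) ⤳ π (g s') := hg.specializes (heq' ▸ hg'.mem)
    obtain ⟨b', hb', hr⟩ := e1 s'
    have h2 := e2 s b' (hb' ▸ h1)
    have h3 := rtd_lt_of_specializes s₀ hss hne (Subsingleton.elim (α := PrimeSpectrum k) _ _)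
    obtain ⟨m, hm⟩ : ∃ m : ℕ, rtd s₀ s = m := Cardinal.lt_aleph0.mp (rtd_lt_aleph0 s₀ _)
    obtain ⟨n, hn⟩ : ∃ n : ℕ, rtd s₀ s' = n := Cardinal.lt_aleph0.mp (rtd_lt_aleph0 s₀ _)
    have h4 := hr.trans h2
    rw [hm, hn] at h3 h4
    have e3 : n + c ≤ m + c := by exact_mod_cast h4
    have e4 : m < n := by exact_mod_cast h3
    omega

/-- Transcendence degrees of the points of the closure of the image of a Noetherian scheme. -/
theorem rtd_le_of_mem_closure_range {B Z : Scheme.{u}} (b : B ⟶ Spec (CommRingCat.of k)) [LocallyOfFiniteType b]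
    [IsNoetherian Z] (q : Z ⟶ B) (n : Cardinal.{u}) (h : ∀ z : Z, rtd b (q z) ≤ n) (b' : B)
    (hb' : b' ∈ closure (Set.range q)) : rtd b b' ≤ n := by
  obtain ⟨T, hTfin, hTc, hTi, hT⟩ := NoetherianSpace.exists_finite_set_isClosed_irreducible
    (isClosed_univ (X := Z))
  have h1 : Set.range q = ⋃ Y ∈ T, q '' Y := by
    rw [← Set.image_univ, hT, Set.sUnion_eq_biUnion, Set.image_iUnion₂]
  rw [h1, hTfin.closure_biUnion] at hb'
  obtain ⟨Y, hY, hbY⟩ := Set.mem_iUnion₂.mp hb'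
  obtain ⟨t, ht⟩ := QuasiSober.sober (hTi Y hY) (hTc Y hY)
  have h2 : IsGenericPoint (q t) (closure (q '' Y)) := ht.image q.continuous
  have h3 : q t ⤳ b' := h2.specializes hbY
  exact (Groth.Agent.VarietyA.LocDim.rtd_le_of_specializes b h3
    (Subsingleton.elim (α := PrimeSpectrum k) _ _)).trans (h t)

/-- The hypothesis `e2` of `le_krullDim` when the fibre is the image of a Noetherian scheme. -/
theorem closure_rtd_le {B Z : Scheme.{u}} (b : B ⟶ Spec (CommRingCat.of k)) [LocallyOfFiniteType b]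
    {P : Type*} [TopologicalSpace P] {π : B → P} (hc : Continuous π) (ho : IsOpenMap π) [IsNoetherian Z] (q : Z ⟶ B)
    (p : P) (hq : Set.range q = π ⁻¹' {p}) (n : Cardinal.{u}) (h : ∀ z : Z, rtd b (q z) ≤ n) (b' : B)
    (hb' : p ⤳ π b') : rtd b b' ≤ n := by
  refine rtd_le_of_mem_closure_range b q n h b' ?_
  rw [hq, ← ho.preimage_closure_eq_closure_preimage hc]
  exact specializes_iff_mem_closure.mp hb'

/-- Transcendence degrees of points of a correspondence `Y ⟵ Z ⟶ B` with `Z ⟶ Y` of relative dimension `c`: the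
inequality at every point. -/
theorem rtd_le_add {Y Z B : Scheme.{u}} (y₀ : Y ⟶ Spec (CommRingCat.of k)) (b : B ⟶ Spec (CommRingCat.of k))
    (p : Z ⟶ Y) [LocallyOfFiniteType p] (q : Z ⟶ B) (hpq : p ≫ y₀ = q ≫ b) (c : ℕ)
    (hp : ∀ z, FlatMor.fibreDimAt p z = c) (z : Z) : rtd b (q z) ≤ rtd y₀ (p z) + (c : Cardinal.{u}) := by
  have h1 : rtd (p ≫ y₀) z = rtd y₀ (p z) + rtd p z := rtd_comp p y₀ z
  have h2 : rtd (q ≫ b) z = rtd b (q z) + rtd q z := rtd_comp q b z
  have h3 : rtd p z ≤ c := by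
    obtain ⟨n, hn, hn'⟩ := Groth.Agent.VarietyA.LocDim.le_fibreDimAt p z z specializes_rfl rfl
    rw [hp z] at hn'
    rw [hn]
    exact_mod_cast hn'
  calc rtd b (q z) ≤ rtd b (q z) + rtd q z := self_le_add_right _ _
    _ = rtd y₀ (p z) + rtd p z := by rw [← h2, ← hpq, h1]
    _ ≤ _ := by gcongr

/-- The same with equality at the generic points of the fibres of `Z ⟶ Y` where `Z ⟶ B` is quasi-finite. -/
theorem exists_rtd_eq_add {Y Z B : Scheme.{u}} (y₀ : Y ⟶ Spec (CommRingCat.of k)) (b : B ⟶ Spec (CommRingCat.of k))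
    (p : Z ⟶ Y) [LocallyOfFiniteType p] (q : Z ⟶ B) (hpq : p ≫ y₀ = q ≫ b) (c : ℕ)
    (z : Z) (hp : FlatMor.fibreDimAt p z = c) (hq : ∀ z', z' ⤳ z → p z' = p z → rtd q z' = 0) :
    ∃ z' : Z, z' ⤳ z ∧ p z' = p z ∧ rtd b (q z') = rtd y₀ (p z) + (c : Cardinal.{u}) := by
  obtain ⟨z', hz', hpz', hr⟩ := K125.FibDims.exists_rtd_eq_fibreDimAt p z c hp
  refine ⟨z', hz', hpz', ?_⟩
  have h1 : rtd (p ≫ y₀) z' = rtd y₀ (p z') + rtd p z' := rtd_comp p y₀ z'
  have h2 : rtd (q ≫ b) z' = rtd b (q z') + rtd q z' := rtd_comp q b z'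
  rw [hq z' hz' hpz', add_zero, ← hpq, h1, hpz', hr] at h2
  exact h2.symm

/-- (c) A chart `V` of relative dimension `c` (relation `V ⟵ Z ⟶ B` with `Z ⟶ V` of relative dimension `c₀` and
`Z ⟶ B` of relative dimension `c`): at a point `v` of `V` in the image of `Z`, the transcendence degree is at most
`dim B + c - c₀`. -/
theorem rtd_add_le {V Z B : Scheme.{u}} (a : V ⟶ Spec (CommRingCat.of k)) (b : B ⟶ Spec (CommRingCat.of k))
    (p : Z ⟶ V) [LocallyOfFiniteType p] (q : Z ⟶ B) [LocallyOfFiniteType q] (hpq : p ≫ a = q ≫ b) (c₀ c N : ℕ)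
    (hB : ∀ x : B, rtd b x ≤ (N : Cardinal.{u})) (z : Z) (hp : FlatMor.fibreDimAt p z = c₀)
    (hq : ∀ z, FlatMor.fibreDimAt q z = c) : rtd a (p z) + (c₀ : Cardinal.{u}) ≤ ((N + c : ℕ) : Cardinal.{u}) := by
  obtain ⟨z', hz', hpz', hr⟩ := K125.FibDims.exists_rtd_eq_fibreDimAt p z c₀ hp
  have h1 : rtd (p ≫ a) z' = rtd a (p z') + rtd p z' := rtd_comp p a z'
  have h2 : rtd (q ≫ b) z' = rtd b (q z') + rtd q z' := rtd_comp q b z'
  have h3 : rtd q z' ≤ c := by
    obtain ⟨n, hn, hn'⟩ := Groth.Agent.VarietyA.LocDim.le_fibreDimAt q z' z' specializes_rfl rfl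
    rw [hq z'] at hn'
    rw [hn]
    exact_mod_cast hn'
  rw [hpz', hr] at h1
  rw [← h1, hpq, h2]
  push_cast
  exact add_le_add (hB _) h3

/-- (c) The same without a bound on the dimension of `B`. -/
theorem exists_rtd_add_le {V Z B : Scheme.{u}} (a : V ⟶ Spec (CommRingCat.of k)) (b : B ⟶ Spec (CommRingCat.of k))
    (p : Z ⟶ V) [LocallyOfFiniteType p] (q : Z ⟶ B) [LocallyOfFiniteType q] (hpq : p ≫ a = q ≫ b) (c₀ c : ℕ)
    (z : Z) (hp : FlatMor.fibreDimAt p z = c₀) (hq : ∀ z, FlatMor.fibreDimAt q z = c) :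
    ∃ z' : Z, z' ⤳ z ∧ p z' = p z ∧ rtd a (p z) + (c₀ : Cardinal.{u}) ≤ rtd b (q z') + (c : Cardinal.{u}) := by
  obtain ⟨z', hz', hpz', hr⟩ := K125.FibDims.exists_rtd_eq_fibreDimAt p z c₀ hp
  refine ⟨z', hz', hpz', ?_⟩
  have h1 : rtd (p ≫ a) z' = rtd a (p z') + rtd p z' := rtd_comp p a z'
  have h2 : rtd (q ≫ b) z' = rtd b (q z') + rtd q z' := rtd_comp q b z'
  have h3 : rtd q z' ≤ c := by
    obtain ⟨n, hn, hn'⟩ := Groth.Agent.VarietyA.LocDim.le_fibreDimAt q z' z' specializes_rfl rfl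
    rw [hq z'] at hn'
    rw [hn]
    exact_mod_cast hn'
  rw [hpz', hr] at h1
  rw [← h1, hpq, h2]
  gcongr

end K393.SmoothDim
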