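import Groth.Agent.Fano.K393.ObjChart
import Groth.Agent.Fano.K393.SmoothDim
import Groth.Agent.Fano.K239.StackDim

/-!
# Irreducibility and dimension of `|𝒳|` from objects with local products

`𝒳` a prestack over `Spec k`.  See `K393.ObjChart` for `cls`, `HasProd` and `K239.StackDim` for the abstract theorem.

* `hcmp`, `hcl`: the formal hypotheses of `K239.StackDim.irreducibleSpace_and_dim`.
* `irreducibleSpace_and_dim`: the theorem for objects.
-/

set_option autoImplicit false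
set_option backward.isDefEq.respectTransparency false
set_option backward.isDefEq.respectTransparency.types false

universe w u

open CategoryTheory CategoryTheory.Limits AlgebraicGeometry Opposite TopologicalSpace

namespace K393.ObjDim

open Groth.Agent Groth.Agent.VarietyB K393.ObjChart K393.RelDimP Groth.Agent.CycB.RelDim

variable {k : Type u} [Field k]

theorem rtd_eq_trd {X : Scheme.{u}} [X.Over (Spec (CommRingCat.of k))]
    [LocallyOfFiniteType (X ↘ Spec (CommRingCat.of k))] (x : X) :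
    rtd (X ↘ Spec (CommRingCat.of k)) x = (DimSch.trd k X x : Cardinal.{u}) :=
  (K432.CurveLift.dim_closure_iff _ x _).mp (K426.DimKit.dim_closure k X x)

theorem rtd_hom_eq_trd (U : Over (Spec (CommRingCat.of k))) [h : LocallyOfFiniteType U.hom] (x : U.left) :
    rtd U.hom x = (DimSch.trd k U.left x : Cardinal.{u}) := by
  have : LocallyOfFiniteType (U.left ↘ Spec (CommRingCat.of k)) := h
  exact rtd_eq_trd (k := k) (X := U.left) x

variable {𝒳 : BasedCategory.{u, w} (Over (Spec (CommRingCat.of k)))}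

theorem hcmp (hs : Stk.IsPrestack (AlgSp.J (Spec (CommRingCat.of k))) 𝒳) {A B : 𝒳.obj}
    [LocallyOfFiniteType (𝒳.p.obj A).hom] [LocallyOfFiniteType (𝒳.p.obj B).hom] {c a : ℕ}
    (HA : HasProd (SmRel c) A) (HB : HasProd (SmRel a) B) (v : (𝒳.p.obj A).left) (b : (𝒳.p.obj B).left)
    (h : cls hs.1 A v = cls hs.1 B b) :
    ∃ b' : (𝒳.p.obj B).left, DimSch.trd k (𝒳.p.obj A).left v + a ≤ DimSch.trd k (𝒳.p.obj B).left b' + c := by
  obtain ⟨Z, p, q, hp, hq, hZ⟩ := exists_roof hs (etLoc_smRel c) (etLoc_smRel a) HA HB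
  obtain ⟨z, hz1, hz2⟩ := (hZ v b).mp h
  have h1 : Smooth p.left := hp.1
  have h2 : Smooth q.left := hq.1
  obtain ⟨z', -, -, hr⟩ := K393.SmoothDim.exists_rtd_add_le (𝒳.p.obj A).hom (𝒳.p.obj B).hom p.left q.left
    ((Over.w p).trans (Over.w q).symm) a c z (hp.2 z) hq.2
  refine ⟨q.left z', ?_⟩
  rw [hz1, rtd_hom_eq_trd, rtd_hom_eq_trd] at hr
  exact_mod_cast hr

theorem hcl (h𝒳 : FibCat.IsFibGrpd 𝒳.p) {B : 𝒳.obj} [LocallyOfFiniteType (𝒳.p.obj B).hom] {a : ℕ}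
    (HB : HasProd (SmRel a ⊓ @QuasiCompact) B) (b b' : (𝒳.p.obj B).left)
    (hb' : b' ∈ closure (cls h𝒳 B ⁻¹' {cls h𝒳 B b})) :
    DimSch.trd k (𝒳.p.obj B).left b' ≤ DimSch.trd k (𝒳.p.obj B).left b + a := by
  obtain ⟨Y', g, t', Z, α, β, hg, ht', ⟨hβ, hqc⟩, hfib⟩ := exists_fibre h𝒳 HB B b
  have hsm : Smooth (𝒳.p.map β).left := hβ.1
  have hqc' : QuasiCompact (𝒳.p.map β).left := hqc
  let f := (𝒳.p.map β).left
  let F := f.fiber t'
  have hF : CompactSpace F := inferInstance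
  have hN : IsLocallyNoetherian F := by
    have : LocallyOfFiniteType (f.fiberToSpecResidueField t') :=
      inferInstanceAs (LocallyOfFiniteType (pullback.snd f ((𝒳.p.obj Y').left.fromSpecResidueField t')))
    exact LocallyOfFiniteType.isLocallyNoetherian (f.fiberToSpecResidueField t')
  have hFN : IsNoetherian F := {}
  let q : F ⟶ (𝒳.p.obj B).left := f.fiberι t' ≫ (𝒳.p.map α).left
  have hq : Set.range q = cls h𝒳 B ⁻¹' {cls h𝒳 B b} := by
    ext v
    constructor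
    · rintro ⟨z, rfl⟩
      refine (hfib _).mpr ⟨f.fiberι t' z, rfl, ?_⟩
      have : f.fiberι t' z ∈ Set.range (f.fiberι t') := ⟨z, rfl⟩
      rw [Scheme.Hom.range_fiberι] at this
      exact this
    · intro hv
      obtain ⟨z, hz1, hz2⟩ := (hfib v).mp hv
      obtain ⟨z', rfl⟩ : z ∈ Set.range (f.fiberι t') := by
        rw [Scheme.Hom.range_fiberι]
        exact hz2
      exact ⟨z', hz1⟩
  have hY : rtd (𝒳.p.obj Y').hom t' = rtd (𝒳.p.obj B).hom b := by
    have h1 : rtd ((𝒳.p.map g).left ≫ (𝒳.p.obj B).hom) t' =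
        rtd (𝒳.p.obj B).hom ((𝒳.p.map g).left t') + rtd (𝒳.p.map g).left t' := rtd_comp _ _ t'
    have h2 : rtd (𝒳.p.map g).left t' = 0 := K616.DimInv.resTrdeg_of_etale _ t'
    have h3 : (𝒳.p.map g).left ≫ (𝒳.p.obj B).hom = (𝒳.p.obj Y').hom := Over.w _
    rw [h3, h2, add_zero, ht'] at h1
    exact h1
  have key : ∀ z : F, rtd (𝒳.p.obj B).hom (q z) ≤ rtd (𝒳.p.obj B).hom b + (a : Cardinal.{u}) := by
    intro z
    have h1 := K393.SmoothDim.rtd_le_add (𝒳.p.obj Y').hom (𝒳.p.obj B).hom f (𝒳.p.map α).left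
      ((Over.w (𝒳.p.map β)).trans (Over.w (𝒳.p.map α)).symm) a hβ.2 (f.fiberι t' z)
    have h2 : f (f.fiberι t' z) = t' := by
      have : f.fiberι t' z ∈ Set.range (f.fiberι t') := ⟨z, rfl⟩
      rw [Scheme.Hom.range_fiberι] at this
      exact this
    rw [h2, hY] at h1
    exact h1
  rw [← hq] at hb'
  have h3 := K393.SmoothDim.rtd_le_of_mem_closure_range (𝒳.p.obj B).hom q _ key b' hb'
  rw [rtd_hom_eq_trd, rtd_hom_eq_trd] at h3
  exact_mod_cast h3

/-- A field valued point with (after a field extension) a morphism to `A` is in the image of `cls A`. -/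
theorem mk_eq_cls_of_hom (h𝒳 : FibCat.IsFibGrpd 𝒳.p) {A : 𝒳.obj} (p r : AlgSt.FPt 𝒳) (e : r.obj ⟶ p.obj)
    (θ : r.obj ⟶ A) : ∃ v, cls h𝒳 A v = AlgSt.Points.mk p := by
  obtain ⟨z⟩ := nonempty_left r
  exact ⟨_, ((mk_eq_cls h𝒳 r θ z).symm.trans (K735.Pts.mk_eq_of_hom e))⟩

/-- Irreducibility and dimension of `|𝒳|` for objects with local products. -/
theorem irreducibleSpace_and_dim (hs : Stk.IsPrestack (AlgSp.J (Spec (CommRingCat.of k))) 𝒳) {ι : Type*}
    (A : ι → 𝒳.obj) [∀ i, LocallyOfFiniteType (𝒳.p.obj (A i)).hom] (c : ι → ℕ)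
    (hA : ∀ i, HasProd (SmRel (c i)) (A i))
    (hsurj : ∀ p : AlgSt.FPt 𝒳, ∃ i, ∃ r : AlgSt.FPt 𝒳, Nonempty (r.obj ⟶ p.obj) ∧ Nonempty (r.obj ⟶ A i))
    (D : ℕ) (B : 𝒳.obj) [LocallyOfFiniteType (𝒳.p.obj B).hom] [IrreducibleSpace (𝒳.p.obj B).left] (a : ℕ)
    (hB : HasProd (SmRel a ⊓ @QuasiCompact) B) (hdim : topologicalKrullDim (𝒳.p.obj B).left ≤ (D + a : ℕ))
    (hdense : ∀ i, Dense {v : (𝒳.p.obj (A i)).left | ∃ b : (𝒳.p.obj B).left, cls hs.1 B b = cls hs.1 (A i) v})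
    (horb : ∀ i (v : (𝒳.p.obj (A i)).left), ∃ v', v' ⤳ v ∧ cls hs.1 (A i) v' = cls hs.1 (A i) v ∧
      c i ≤ DimSch.trd k (𝒳.p.obj (A i)).left v')
    {S : Scheme.{u}} [S.Over (Spec (CommRingCat.of k))] [LocallyOfFiniteType (S ↘ Spec (CommRingCat.of k))]
    (j : S ⟶ (𝒳.p.obj B).left) (hS : (D : WithBot ℕ∞) ≤ topologicalKrullDim S)
    (hSorb : ∀ s : S, ∃ q : (𝒳.p.obj B).left, cls hs.1 B q = cls hs.1 B (j s) ∧
      DimSch.trd k S s + a ≤ DimSch.trd k (𝒳.p.obj B).left q)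
    (hj : ∀ s : S, DimSch.trd k (𝒳.p.obj B).left (j s) ≤ DimSch.trd k S s) :
    IrreducibleSpace (AlgSt.Points 𝒳) ∧ topologicalKrullDim (AlgSt.Points 𝒳) = D := by
  have hlft : ∀ i, LocallyOfFiniteType ((𝒳.p.obj (A i)).left ↘ Spec (CommRingCat.of k)) := fun i =>
    inferInstanceAs (LocallyOfFiniteType (𝒳.p.obj (A i)).hom)
  have hlftB : LocallyOfFiniteType ((𝒳.p.obj B).left ↘ Spec (CommRingCat.of k)) :=
    inferInstanceAs (LocallyOfFiniteType (𝒳.p.obj B).hom)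
  have hsmA : ∀ i, HasProd (𝒳 := 𝒳) @Smooth (A i) := fun i => (hA i).mono fun _ _ _ h => h.1
  have hBr : HasProd (SmRel a) B := hB.mono fun _ _ _ h => h.1
  have hsmB : HasProd (𝒳 := 𝒳) @Smooth B := hBr.mono fun _ _ _ h => h.1
  exact K239.StackDim.irreducibleSpace_and_dim k (fun i => (𝒳.p.obj (A i)).left) (fun i => cls hs.1 (A i))
    (fun i => continuous_cls hs (hsmA i)) (fun i => isOpenMap_cls hs (hsmA i))
    (fun z => by
      obtain ⟨p, rfl⟩ := AlgSt.Points.mk_surjective z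
      obtain ⟨i, r, ⟨e⟩, ⟨θ⟩⟩ := hsurj p
      obtain ⟨v, hv⟩ := mk_eq_cls_of_hom hs.1 p r e θ
      exact ⟨i, v, hv⟩) c D (cls hs.1 B) (isOpenMap_cls hs hsmB) (continuous_cls hs hsmB) j a hdim
    (fun i => hdense i) (fun i v b h => hcmp hs (hA i) hBr v b h) horb hS (hcl hs.1 hB) hSorb hj

end K393.ObjDim
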