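import Groth.Agent.Fano.K393.ObjDim

/-!
# Irreducibility and dimension of `|𝒳|`, with quasi-compact products at `B` only

Variant of `K393.ObjDim` in which quasi-compactness is asked only of the product of `B` with (étale neighbourhoods of)
`B` itself.

* `HasProdAt P A Y`: the products of `A` with étale neighbourhoods of `Y`.
* `hcl`, `irreducibleSpace_and_dim`.
-/

set_option autoImplicit false
set_option backward.isDefEq.respectTransparency false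
set_option backward.isDefEq.respectTransparency.types false

universe w u

open CategoryTheory CategoryTheory.Limits AlgebraicGeometry Opposite TopologicalSpace

namespace K393.ObjDim2

open Groth.Agent Groth.Agent.VarietyB K393.ObjChart K393.RelDimP Groth.Agent.CycB.RelDim K393.ObjDim

section At

variable {S : Scheme.{u}} {𝒳 : BasedCategory.{u, w} (Over S)}

/-- Étale locally on the base of `Y`, the product of `A` and `Y` exists and has property `P` over the base of `Y`. -/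
def HasProdAt (P : MorphismProperty Scheme.{u}) (A Y : 𝒳.obj) : Prop :=
  ∀ t : (𝒳.p.obj Y).left, ∃ (Y' : 𝒳.obj) (g : Y' ⟶ Y) (t' : (𝒳.p.obj Y').left) (Z : 𝒳.obj)
    (α : Z ⟶ A) (β : Z ⟶ Y'), Etale (𝒳.p.map g).left ∧ (𝒳.p.map g).left t' = t ∧
    (∀ (Z' : 𝒳.obj) (a : Z' ⟶ A) (b : Z' ⟶ Y'), ∃! z : Z' ⟶ Z, z ≫ α = a ∧ z ≫ β = b) ∧ P (𝒳.p.map β).left

theorem HasProdAt.of_hasProd {P : MorphismProperty Scheme.{u}} {A : 𝒳.obj} (hA : HasProd P A) (Y : 𝒳.obj) :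
    HasProdAt P A Y := hA Y

/-- The case of a product without an étale neighbourhood. -/
theorem HasProdAt.of_prod {P : MorphismProperty Scheme.{u}} {A Y Z : 𝒳.obj} (α : Z ⟶ A) (β : Z ⟶ Y)
    (h : ∀ (Z' : 𝒳.obj) (a : Z' ⟶ A) (b : Z' ⟶ Y), ∃! z : Z' ⟶ Z, z ≫ α = a ∧ z ≫ β = b)
    (hβ : P (𝒳.p.map β).left) : HasProdAt P A Y := by
  intro t
  refine ⟨Y, 𝟙 Y, t, Z, α, β, ?_, ?_, h, hβ⟩
  · rw [CategoryTheory.Functor.map_id, Over.id_left]
    infer_instance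
  · rw [CategoryTheory.Functor.map_id, Over.id_left]
    rfl

/-- The points of the base of `A` equivalent to a given point of the base of an object. -/
theorem exists_fibre (h𝒳 : FibCat.IsFibGrpd 𝒳.p) {P : MorphismProperty Scheme.{u}} {A Y : 𝒳.obj}
    (HA : HasProdAt P A Y) (t : (𝒳.p.obj Y).left) :
    ∃ (Y' : 𝒳.obj) (g : Y' ⟶ Y) (t' : (𝒳.p.obj Y').left) (Z : 𝒳.obj)
      (α : Z ⟶ A) (β : Z ⟶ Y'), Etale (𝒳.p.map g).left ∧ (𝒳.p.map g).left t' = t ∧ P (𝒳.p.map β).left ∧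
      ∀ v : (𝒳.p.obj A).left, cls h𝒳 A v = cls h𝒳 Y t ↔
        ∃ z : (𝒳.p.obj Z).left, (𝒳.p.map α).left z = v ∧ (𝒳.p.map β).left z = t' := by
  obtain ⟨Y', g, t', Z, α, β, h1, h2, h3, h4⟩ := HA t
  refine ⟨Y', g, t', Z, α, β, h1, h2, h4, fun v => ⟨fun h => ?_, ?_⟩⟩
  · rw [← h2, cls_map] at h
    obtain ⟨r, a, b, ha, hb⟩ := (cls_eq_iff h𝒳 A Y' v t').mp h
    obtain ⟨z, ⟨hz1, hz2⟩, -⟩ := h3 r.obj a b
    obtain ⟨x⟩ := nonempty_left r
    refine ⟨(𝒳.p.map z).left x, ?_, ?_⟩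
    · rw [← Scheme.Hom.comp_apply, ← Over.comp_left, ← Functor.map_comp, hz1, ha]
    · rw [← Scheme.Hom.comp_apply, ← Over.comp_left, ← Functor.map_comp, hz2, hb]
  · rintro ⟨z, rfl, hz⟩
    rw [cls_map, ← h2, cls_map, ← hz, cls_map]

end At

section Dim

variable {k : Type u} [Field k] {𝒳 : BasedCategory.{u, w} (Over (Spec (CommRingCat.of k)))}

theorem hcl (h𝒳 : FibCat.IsFibGrpd 𝒳.p) {B : 𝒳.obj} [LocallyOfFiniteType (𝒳.p.obj B).hom] {a : ℕ}
    (HB : HasProdAt (SmRel a ⊓ @QuasiCompact) B B) (b b' : (𝒳.p.obj B).left)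
    (hb' : b' ∈ closure (cls h𝒳 B ⁻¹' {cls h𝒳 B b})) :
    DimSch.trd k (𝒳.p.obj B).left b' ≤ DimSch.trd k (𝒳.p.obj B).left b + a := by
  obtain ⟨Y', g, t', Z, α, β, hg, ht', ⟨hβ, hqc⟩, hfib⟩ := exists_fibre h𝒳 HB b
  have hsm : Smooth (𝒳.p.map β).left := hβ.1
  have hqc' : QuasiCompact (𝒳.p.map β).left := hqc
  let f := (𝒳.p.map β).left
  let F := f.fiber t'
  have hF : CompactSpace F := inferInstance
  have hN : IsLocallyNoetherian F := by
    have : LocallyOfFiniteType (f.fiberToSpecResidueField t') :=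
      inferInstanceAs (LocallyOfFiniteType (pullback.snd f ((𝒳.p.obj Y').left.fromSpecResidueField t')))
    exact LocallyOfFiniteType.isLocallyNoetherian (f.fiberToSpecResidueField t')
  have hFN : IsNoetherian F := {}
  let q : F ⟶ (𝒳.p.obj B).left := f.fiberι t' ≫ (𝒳.p.map α).left
  have hq : Set.range q = cls h𝒳 B ⁻¹' {cls h𝒳 B b} := by
    ext v
    constructor
    · rintro ⟨z, rfl⟩
      refine (hfib _).mpr ⟨f.fiberι t' z, rfl, ?_⟩
      have : f.fiberι t' z ∈ Set.range (f.fiberι t') := ⟨z, rfl⟩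
      rw [Scheme.Hom.range_fiberι] at this
      exact this
    · intro hv
      obtain ⟨z, hz1, hz2⟩ := (hfib v).mp hv
      obtain ⟨z', rfl⟩ : z ∈ Set.range (f.fiberι t') := by
        rw [Scheme.Hom.range_fiberι]
        exact hz2
      exact ⟨z', hz1⟩
  have hY : rtd (𝒳.p.obj Y').hom t' = rtd (𝒳.p.obj B).hom b := by
    have h1 : rtd ((𝒳.p.map g).left ≫ (𝒳.p.obj B).hom) t' =
        rtd (𝒳.p.obj B).hom ((𝒳.p.map g).left t') + rtd (𝒳.p.map g).left t' := rtd_comp _ _ t'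
    have h2 : rtd (𝒳.p.map g).left t' = 0 := K616.DimInv.resTrdeg_of_etale _ t'
    have h3 : (𝒳.p.map g).left ≫ (𝒳.p.obj B).hom = (𝒳.p.obj Y').hom := Over.w _
    rw [h3, h2, add_zero, ht'] at h1
    exact h1
  have key : ∀ z : F, rtd (𝒳.p.obj B).hom (q z) ≤ rtd (𝒳.p.obj B).hom b + (a : Cardinal.{u}) := by
    intro z
    have h1 := K393.SmoothDim.rtd_le_add (𝒳.p.obj Y').hom (𝒳.p.obj B).hom f (𝒳.p.map α).left
      ((Over.w (𝒳.p.map β)).trans (Over.w (𝒳.p.map α)).symm) a hβ.2 (f.fiberι t' z)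
    have h2 : f (f.fiberι t' z) = t' := by
      have : f.fiberι t' z ∈ Set.range (f.fiberι t') := ⟨z, rfl⟩
      rw [Scheme.Hom.range_fiberι] at this
      exact this
    rw [h2, hY] at h1
    exact h1
  rw [← hq] at hb'
  have h3 := K393.SmoothDim.rtd_le_of_mem_closure_range (𝒳.p.obj B).hom q _ key b' hb'
  rw [rtd_hom_eq_trd, rtd_hom_eq_trd] at h3
  exact_mod_cast h3

/-- Irreducibility and dimension of `|𝒳|` for objects with local products; quasi-compactness at `B` only. -/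
theorem irreducibleSpace_and_dim (hs : Stk.IsPrestack (AlgSp.J (Spec (CommRingCat.of k))) 𝒳) {ι : Type*}
    (A : ι → 𝒳.obj) [∀ i, LocallyOfFiniteType (𝒳.p.obj (A i)).hom] (c : ι → ℕ)
    (hA : ∀ i, HasProd (SmRel (c i)) (A i))
    (hsurj : ∀ p : AlgSt.FPt 𝒳, ∃ i, ∃ r : AlgSt.FPt 𝒳, Nonempty (r.obj ⟶ p.obj) ∧ Nonempty (r.obj ⟶ A i))
    (D : ℕ) (B : 𝒳.obj) [LocallyOfFiniteType (𝒳.p.obj B).hom] [IrreducibleSpace (𝒳.p.obj B).left] (a : ℕ)
    (hB : HasProd (SmRel a) B) (hBB : HasProdAt (SmRel a ⊓ @QuasiCompact) B B)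
    (hdim : topologicalKrullDim (𝒳.p.obj B).left ≤ (D + a : ℕ))
    (hdense : ∀ i, Dense {v : (𝒳.p.obj (A i)).left | ∃ b : (𝒳.p.obj B).left, cls hs.1 B b = cls hs.1 (A i) v})
    (horb : ∀ i (v : (𝒳.p.obj (A i)).left), ∃ v', v' ⤳ v ∧ cls hs.1 (A i) v' = cls hs.1 (A i) v ∧
      c i ≤ DimSch.trd k (𝒳.p.obj (A i)).left v')
    {S : Scheme.{u}} [S.Over (Spec (CommRingCat.of k))] [LocallyOfFiniteType (S ↘ Spec (CommRingCat.of k))]
    (j : S ⟶ (𝒳.p.obj B).left) (hS : (D : WithBot ℕ∞) ≤ topologicalKrullDim S)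
    (hSorb : ∀ s : S, ∃ q : (𝒳.p.obj B).left, cls hs.1 B q = cls hs.1 B (j s) ∧
      DimSch.trd k S s + a ≤ DimSch.trd k (𝒳.p.obj B).left q)
    (hj : ∀ s : S, DimSch.trd k (𝒳.p.obj B).left (j s) ≤ DimSch.trd k S s) :
    IrreducibleSpace (AlgSt.Points 𝒳) ∧ topologicalKrullDim (AlgSt.Points 𝒳) = D := by
  have hlft : ∀ i, LocallyOfFiniteType ((𝒳.p.obj (A i)).left ↘ Spec (CommRingCat.of k)) := fun i =>
    inferInstanceAs (LocallyOfFiniteType (𝒳.p.obj (A i)).hom)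
  have hlftB : LocallyOfFiniteType ((𝒳.p.obj B).left ↘ Spec (CommRingCat.of k)) :=
    inferInstanceAs (LocallyOfFiniteType (𝒳.p.obj B).hom)
  have hsmA : ∀ i, HasProd (𝒳 := 𝒳) @Smooth (A i) := fun i => (hA i).mono fun _ _ _ h => h.1
  have hsmB : HasProd (𝒳 := 𝒳) @Smooth B := hB.mono fun _ _ _ h => h.1
  exact K239.StackDim.irreducibleSpace_and_dim k (fun i => (𝒳.p.obj (A i)).left) (fun i => cls hs.1 (A i))
    (fun i => continuous_cls hs (hsmA i)) (fun i => isOpenMap_cls hs (hsmA i))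
    (fun z => by
      obtain ⟨p, rfl⟩ := AlgSt.Points.mk_surjective z
      obtain ⟨i, r, ⟨e⟩, ⟨θ⟩⟩ := hsurj p
      obtain ⟨v, hv⟩ := mk_eq_cls_of_hom hs.1 p r e θ
      exact ⟨i, v, hv⟩) c D (cls hs.1 B) (isOpenMap_cls hs hsmB) (continuous_cls hs hsmB) j a hdim
    (fun i => hdense i) (fun i v b h => hcmp hs (hA i) hB v b h) horb hS (hcl hs.1 hBB) hSorb hj

end Dim

end K393.ObjDim2
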