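import Groth.Agent.Fano.K393.OpenMap
import Groth.Agent.Variety.K432.CurveNorm
import Groth.Agent.EGA43.K125.FibDims
import Groth.Agent.AlgSp.K616.DimInv
import Groth.Agent.S10831

/-!
# Irreducibility and dimension of the target of open maps from schemes over a field

* `dim_eq_of_forall_maximal`: a nonempty scheme locally of finite type over a field all of whose generic points have
  transcendence degree `n` has dimension `n`.
* `eq_of_specializes`: for an étale equivalence relation there are no specializations in the fibres.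
* `irreducible_and_dim`: the main theorem.
-/

set_option autoImplicit false

universe v u

open CategoryTheory AlgebraicGeometry TopologicalSpace Order Topology

namespace K393.DimTop

open Groth.Agent.CycB.RelDim

variable {k : Type u} [Field k]

theorem irreducibleSpace_of_denseRange {W P : Type*} [TopologicalSpace W] [TopologicalSpace P] [IrreducibleSpace W]
    {φ : W → P} (hφ : Continuous φ) (hd : DenseRange φ) : IrreducibleSpace P := by
  have h1 := (IrreducibleSpace.isIrreducible_univ W).image φ hφ.continuousOn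
  rw [Set.image_univ] at h1
  have h2 := h1.closure
  rw [hd.closure_range] at h2
  exact (irreducibleSpace_def P).mpr h2

/-- If all generic points have transcendence degree `n`, the dimension is `n`. -/
theorem dim_eq_of_forall_maximal {U : Scheme.{u}} [Nonempty U] (a : U ⟶ Spec (CommRingCat.of k))
    [LocallyOfFiniteType a] (n : ℕ) (h : ∀ u : U, (∀ u' : U, u' ⤳ u → u' = u) → rtd a u = n) :
    topologicalKrullDim U = n := by
  have key : ∀ Y ∈ irreducibleComponents U, topologicalKrullDim Y = n := by
    intro Y hY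
    have hYc : IsClosed Y := isClosed_of_mem_irreducibleComponents Y hY
    obtain ⟨y, hy⟩ := QuasiSober.sober hY.1 hYc
    have hmax : ∀ u' : U, u' ⤳ y → u' = y := by
      intro u' hu'
      have h1 : Y ⊆ closure {u'} := by
        rw [← hy.def]
        exact closure_minimal (Set.singleton_subset_iff.mpr (specializes_iff_mem_closure.mp hu')) isClosed_closure
      have h2 : closure {u'} ⊆ Y := hY.2 isIrreducible_singleton.closure h1
      exact (hu'.antisymm (hy.specializes (h2 (subset_closure rfl)))).eq
    obtain ⟨m, hm, hm'⟩ := K432.CurveLift.exists_dim_closure a y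
    rw [h y hmax] at hm
    have hnm : n = m := by exact_mod_cast hm
    rw [hy.def] at hm'
    rw [hm', hnm]
  rw [Groth.Agent.S10831.result U]
  obtain ⟨x⟩ := ‹Nonempty U›
  apply le_antisymm
  · exact iSup₂_le fun Y hY => (key Y hY).le
  · refine le_trans (key _ (irreducibleComponent_mem_irreducibleComponents x)).ge ?_
    exact le_iSup₂ (f := fun Y (_ : Y ∈ irreducibleComponents U) => topologicalKrullDim Y) _
      (irreducibleComponent_mem_irreducibleComponents x)

/-- There are no specializations between equivalent points for an étale equivalence relation. -/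
theorem eq_of_specializes {U : Scheme.{u}} (a : U ⟶ Spec (CommRingCat.of k)) [LocallyOfFiniteType a] {x y : U}
    (h : x ⤳ y) {Z : Scheme.{u}} (p q : Z ⟶ U) [Etale p] [Etale q] (hpq : p ≫ a = q ≫ a) (z : Z) (hx : p z = x)
    (hy : q z = y) : x = y := by
  by_contra hne
  have h1 : rtd (p ≫ a) z = rtd a (p z) + rtd p z := rtd_comp p a z
  have h2 : rtd (q ≫ a) z = rtd a (q z) + rtd q z := rtd_comp q a z
  have h3 : rtd p z = 0 := K616.DimInv.resTrdeg_of_etale p z
  have h4 : rtd q z = 0 := K616.DimInv.resTrdeg_of_etale q z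
  have h5 : rtd a y < rtd a x := rtd_lt_of_specializes a h hne (Subsingleton.elim (α := PrimeSpectrum k) _ _)
  rw [h3, add_zero, hx] at h1
  rw [h4, add_zero, hy, ← hpq, h1] at h2
  rw [h2] at h5
  exact lt_irrefl _ h5

/-- Main theorem: `U i` étale charts, `W` a smooth chart of relative dimension `m` which is irreducible and has dense
image. -/
theorem irreducible_and_dim {ι : Type v} {U : ι → Scheme.{u}} (a : ∀ i, U i ⟶ Spec (CommRingCat.of k))
    [∀ i, LocallyOfFiniteType (a i)] {P : Type*} [TopologicalSpace P] [T0Space P] {π : ∀ i, U i → P}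
    (hc : ∀ i, Continuous (π i)) (ho : ∀ i, IsOpenMap (π i)) (hs : ∀ p : P, ∃ i, ∃ v, π i v = p)
    (hinj : ∀ i, ∀ x y : U i, x ⤳ y → π i x = π i y → x = y)
    {W : Scheme.{u}} [IrreducibleSpace W] (b : W ⟶ Spec (CommRingCat.of k)) [LocallyOfFiniteType b] {φ : W → P}
    (hφ : Continuous φ) (hφd : DenseRange φ) (m : ℕ)
    (hR : ∀ i, ∃ (Z : Scheme.{u}) (p : Z ⟶ U i) (q : Z ⟶ W), LocallyOfFiniteType p ∧
      (∀ z, FlatMor.fibreDimAt p z = m) ∧ Etale q ∧ p ≫ a i = q ≫ b ∧
      ∀ u w, π i u = φ w → ∃ z, p z = u ∧ q z = w) :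
    IrreducibleSpace P ∧ topologicalKrullDim P + m = topologicalKrullDim W := by
  have hP : IrreducibleSpace P := irreducibleSpace_of_denseRange hφ hφd
  refine ⟨hP, ?_⟩
  have hNoeth : ∀ i, IsLocallyNoetherian (U i) := fun i => LocallyOfFiniteType.isLocallyNoetherian (a i)
  have hsob : QuasiSober P := K393.OpenMap.quasiSober hc ho hs
  obtain ⟨n, hn⟩ : ∃ n : ℕ, rtd b (genericPoint W) = n := Cardinal.lt_aleph0.mp (rtd_lt_aleph0 b _)
  have hW : topologicalKrullDim W = n := (K432.CurveNorm.dim_eq_iff b n).mpr hn
  -- the generic point of `P`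
  have hφg : φ (genericPoint W) = genericPoint P := by
    have h1 : IsGenericPoint (φ (genericPoint W)) (closure (φ '' Set.univ)) := (genericPoint_spec W).image hφ
    rw [Set.image_univ, hφd.closure_range] at h1
    exact h1.eq (genericPoint_spec P)
  have key : ∀ i (u : U i), (∀ u' : U i, u' ⤳ u → u' = u) → ∃ d : ℕ, rtd (a i) u = d ∧ d + m = n := by
    intro i u hu
    have hπu : π i u = φ (genericPoint W) := by
      rw [hφg]
      obtain ⟨y, hy1, hy2, -⟩ := K393.OpenMap.exists_generization (hc i) (ho i) (v := u) (p := genericPoint P)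
        ((genericPoint_spec P).specializes trivial)
      rw [← hu y hy1, hy2]
    obtain ⟨Z, p, q, _, hpm, _, hpq, hZ⟩ := hR i
    obtain ⟨z, hz1, hz2⟩ := hZ u _ hπu
    obtain ⟨z', hz', hpz', hr⟩ := K125.FibDims.exists_rtd_eq_fibreDimAt p z m (hpm z)
    have hqz' : q z' = genericPoint W := by
      have h1 : q z' ⤳ genericPoint W := hz2 ▸ hz'.map q.continuous
      exact (h1.antisymm ((genericPoint_spec W).specializes trivial)).eq
    have h1 : rtd (p ≫ a i) z' = rtd (a i) (p z') + rtd p z' := rtd_comp p (a i) z'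
    have h2 : rtd (q ≫ b) z' = rtd b (q z') + rtd q z' := rtd_comp q b z'
    have h4 : rtd q z' = 0 := K616.DimInv.resTrdeg_of_etale q z'
    rw [hpz', hz1, hr] at h1
    rw [h4, add_zero, hqz', hn, ← hpq, h1] at h2
    obtain ⟨d, hd⟩ : ∃ d : ℕ, rtd (a i) u = d := Cardinal.lt_aleph0.mp (rtd_lt_aleph0 (a i) _)
    refine ⟨d, hd, ?_⟩
    rw [hd] at h2
    exact_mod_cast h2
  obtain ⟨i₀, u₀, -⟩ := hs (genericPoint P)
  have hmax : ∀ i (u : U i), ∃ u' : U i, u' ⤳ u ∧ ∀ u'' : U i, u'' ⤳ u' → u'' = u' := by
    intro i u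
    obtain ⟨y, hy1, -, hy3⟩ := K393.OpenMap.exists_generization (hc i) (ho i) (v := u) (p := genericPoint P)
        ((genericPoint_spec P).specializes trivial)
    exact ⟨y, hy1, fun q hq => hy3 q hq ((genericPoint_spec P).specializes trivial)⟩
  obtain ⟨u₁, -, hu₁⟩ := hmax i₀ u₀
  obtain ⟨d, hd, hdm⟩ := key i₀ u₁ hu₁
  have hdim : ∀ i, Nonempty (U i) → topologicalKrullDim (U i) = d := by
    intro i _
    refine dim_eq_of_forall_maximal (a i) d fun u hu => ?_
    obtain ⟨d', hd', hdm'⟩ := key i u hu
    have : d' = d := by omega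
    rw [hd', this]
  have hdP : topologicalKrullDim P = d := by
    rw [K393.OpenMap.topologicalKrullDim_eq hc ho hs hinj]
    apply le_antisymm
    · refine iSup_le fun i => ?_
      rcases isEmpty_or_nonempty (U i) with hi | hi
      · have : IsEmpty (IrreducibleCloseds (U i)) := by
          constructor
          intro Z
          obtain ⟨x, -⟩ := Z.isIrreducible.nonempty
          exact IsEmpty.false x
        rw [show topologicalKrullDim (U i) = ⊥ from Order.krullDim_eq_bot]
        exact bot_le
      · exact (hdim i hi).le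
    · have : Nonempty (U i₀) := ⟨u₀⟩
      rw [← hdim i₀ this]
      exact le_iSup (fun i => topologicalKrullDim (U i)) i₀
  rw [hdP, hW, ← hdm]
  push_cast
  rfl

end K393.DimTop
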