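import Groth.Agent.Fano.K393.SmoothDim
import Groth.Agent.Sga2lef.H98.Rtd
import Mathlib.AlgebraicGeometry.AlgClosed.Basic

/-!
# Finite geometric fibres and transcendence degrees

* `rtd_eq_zero_of_finite`: a morphism locally of finite type with finite geometric fibres has algebraic residue field
  extensions.
-/

set_option autoImplicit false

universe u

open CategoryTheory CategoryTheory.Limits AlgebraicGeometry TopologicalSpace Topology

namespace K393.QFin

open Groth.Agent.CycB.RelDim

/-- A scheme locally of finite type over an algebraically closed field with finitely many rational points consists of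
closed points. -/
theorem isClosed_singleton_of_finite {Ω : Type u} [Field Ω] [IsAlgClosed Ω] {X : Scheme.{u}}
    (q : X ⟶ Spec (CommRingCat.of Ω)) [LocallyOfFiniteType q]
    (h : {s : Spec (CommRingCat.of Ω) ⟶ X | s ≫ q = 𝟙 _}.Finite) (x : X) : IsClosed ({x} : Set X) := by
  have hJ : JacobsonSpace X := LocallyOfFiniteType.jacobsonSpace q
  have hfin : (closedPoints X).Finite := by
    have h1 : closedPoints X ⊆ (fun s : Spec (CommRingCat.of Ω) ⟶ X => s (IsLocalRing.closedPoint Ω)) ''
        {s : Spec (CommRingCat.of Ω) ⟶ X | s ≫ q = 𝟙 _} := by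
      intro y hy
      exact ⟨pointOfClosedPoint q y hy, pointOfClosedPoint_comp q y hy,
        pointOfClosedPoint_apply q y hy (IsLocalRing.closedPoint Ω)⟩
    exact (h.image _).subset h1
  have h2 : closure (closure {x} ∩ closedPoints X) = closure {x} := JacobsonSpace.closure_inter_closedPoints isClosed_closure
  have h3 : IsClosed (closure {x} ∩ closedPoints X) := by
    have h4 : (closure {x} ∩ closedPoints X).Finite := hfin.subset Set.inter_subset_right
    rw [← Set.biUnion_of_singleton (closure {x} ∩ closedPoints X)]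
    exact h4.isClosed_biUnion fun y hy => hy.2
  rw [h3.closure_eq] at h2
  have h6 : x ∈ closure {x} ∩ closedPoints X := (Set.ext_iff.mp h2 x).mpr (subset_closure rfl)
  exact h6.2

/-- The transcendence degrees vanish if all points are closed. -/
theorem rtd_eq_zero_of_isClosed {Ω : Type u} [Field Ω] {X : Scheme.{u}} (q : X ⟶ Spec (CommRingCat.of Ω))
    [LocallyOfFiniteType q] (x : X) (hx : IsClosed ({x} : Set X)) : rtd q x = 0 := by
  have h0 : topologicalKrullDim (closure {x} : Set X) = ((0 : ℕ) : WithBot ℕ∞) := by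
    rw [hx.closure_eq]
    refine le_antisymm ?_ ?_
    · exact topologicalKrullDim_zero_of_discreteTopology _
    · have : Nonempty (IrreducibleCloseds ({x} : Set X)) :=
        ⟨⟨Set.univ, ⟨⟨⟨x, rfl⟩, trivial⟩, (Set.subsingleton_univ).isPreirreducible⟩, isClosed_univ⟩⟩
      exact Order.krullDim_nonneg
  have h1 := (K432.CurveLift.dim_closure_iff q x 0).mp h0
  rw [h1]
  exact Nat.cast_zero

theorem rtd_eq_zero_aux {Z Q : Scheme.{u}} (f : Z ⟶ Q) [LocallyOfFiniteType f] {Ω : Type u} [Field Ω]
    [IsAlgClosed Ω] (y : Spec (CommRingCat.of Ω) ⟶ Q)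
    (h : {s : Spec (CommRingCat.of Ω) ⟶ Z | s ≫ f = y}.Finite) (p : Z)
    (hy : y (IsLocalRing.closedPoint Ω) = f p) : rtd f p = 0 := by
  obtain ⟨t, ht, -⟩ := Scheme.Pullback.exists_preimage_pullback (f := f) (g := y) p _ hy.symm
  have hcl : ∀ x : ↑(pullback f y), IsClosed ({x} : Set ↑(pullback f y)) := by
    refine isClosed_singleton_of_finite (pullback.snd f y) ?_
    refine Set.Finite.of_finite_image (f := fun s => s ≫ pullback.fst f y) (h.subset ?_) ?_
    · rintro _ ⟨s, hs, rfl⟩
      change (s ≫ pullback.fst f y) ≫ f = y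
      rw [Category.assoc, pullback.condition, ← Category.assoc, show s ≫ pullback.snd f y = 𝟙 _ from hs,
        Category.id_comp]
    · intro s hs s' hs' e
      refine pullback.hom_ext e ?_
      rw [show s ≫ pullback.snd f y = 𝟙 _ from hs, show s' ≫ pullback.snd f y = 𝟙 _ from hs']
  have h1 : FlatMor.fibreDimAt (pullback.snd f y) t ≤ ((0 : ℕ) : WithBot ℕ∞) :=
    Groth.Agent.VarietyA.LocDim.fibreDimAt_le (pullback.snd f y) t 0 fun w _ _ => by
      rw [rtd_eq_zero_of_isClosed (pullback.snd f y) w (hcl w)]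
      exact Nat.cast_zero.ge
  rw [Groth.Agent.Ega4fib.H172.FibDimBC.fibreDimAt_of_isPullback (IsPullback.of_hasPullback f y) t, ht] at h1
  obtain ⟨n, hn, hn'⟩ := Groth.Agent.VarietyA.LocDim.le_fibreDimAt f p p specializes_rfl rfl
  have h2 := hn'.trans h1
  have h3 : n ≤ 0 := by exact_mod_cast h2
  rw [hn, Nat.le_zero.mp h3]
  exact Nat.cast_zero

theorem apply_eq {Q : Scheme.{u}} (w : Q) {Ω : Type u} [Field Ω]
    (ψ : Spec (CommRingCat.of Ω) ⟶ Spec (Q.residueField w)) :
    (ψ ≫ Q.fromSpecResidueField w) (IsLocalRing.closedPoint Ω) = w :=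
  (Scheme.Hom.comp_apply ψ (Q.fromSpecResidueField w) (IsLocalRing.closedPoint Ω)).trans
    (Scheme.fromSpecResidueField_apply _ _)

/-- Finite geometric fibres imply algebraic residue field extensions. -/
theorem rtd_eq_zero_of_finite {Z Q : Scheme.{u}} (f : Z ⟶ Q) [LocallyOfFiniteType f]
    (h : ∀ (Ω : Type u) [Field Ω] [IsAlgClosed Ω] (y : Spec (CommRingCat.of Ω) ⟶ Q),
      {s : Spec (CommRingCat.of Ω) ⟶ Z | s ≫ f = y}.Finite) (p : Z) : rtd f p = 0 := by
  obtain ⟨Ω, _, _, ⟨ψ⟩⟩ : ∃ (Ω : Type u) (_ : Field Ω) (_ : IsAlgClosed Ω),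
      Nonempty (Spec (CommRingCat.of Ω) ⟶ Spec (Q.residueField (f p))) :=
    ⟨AlgebraicClosure (Q.residueField (f p)), inferInstance, inferInstance,
      ⟨Spec.map (CommRingCat.ofHom (algebraMap (Q.residueField (f p)) (AlgebraicClosure (Q.residueField (f p)))))⟩⟩
  exact rtd_eq_zero_aux f (ψ ≫ Q.fromSpecResidueField (f p)) (h _ _) p (apply_eq _ ψ)

end K393.QFin
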