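import Groth.Agent.Fano.K393.ObjDim
import Groth.Agent.Fano.K393.QFin

/-!
# Orbits of a smooth chart when automorphism groups are finite

* `horb`: the hypothesis `horb` of `K393.ObjDim.irreducibleSpace_and_dim` from the finiteness of the sets of
  isomorphisms of objects over algebraically closed fields.
-/

set_option autoImplicit false
set_option backward.isDefEq.respectTransparency false
set_option backward.isDefEq.respectTransparency.types false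

universe w u

open CategoryTheory CategoryTheory.Limits AlgebraicGeometry Opposite TopologicalSpace

namespace K393.Horb

open Groth.Agent Groth.Agent.VarietyB K393.ObjChart K393.ObjDim K393.RelDimP Groth.Agent.CycB.RelDim

section Lift

variable {S : Scheme.{u}} {𝒳 : BasedCategory.{u, w} (Over S)} (h𝒳 : FibCat.IsFibGrpd 𝒳.p)

include h𝒳 in
/-- Finitely many morphisms over a given morphism of bases, from the case of isomorphisms. -/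
theorem finite_hom_over (hAut : ∀ (Ω : Type u) [Field Ω] [IsAlgClosed Ω] (Y₁ Y₂ : 𝒳.obj) (b : 𝒳.p.obj Y₁ ≅ 𝒳.p.obj Y₂)
      (_ : (𝒳.p.obj Y₂).left ≅ Spec (CommRingCat.of Ω)), Finite {φ : Y₁ ⟶ Y₂ // 𝒳.p.map φ = b.hom})
    (Ω : Type u) [Field Ω] [IsAlgClosed Ω] (Y₁ Y : 𝒳.obj) (t : (𝒳.p.obj Y₁).left ≅ Spec (CommRingCat.of Ω))
    (b : 𝒳.p.obj Y₁ ⟶ 𝒳.p.obj Y) : Finite {φ : Y₁ ⟶ Y // 𝒳.p.map φ = b} := by
  have e : 𝒳.p.obj (K736.Fib.pull h𝒳 b) = 𝒳.p.obj Y₁ := K736.Fib.pull_obj h𝒳 b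
  have hfin := hAut Ω Y₁ (K736.Fib.pull h𝒳 b) (eqToIso e.symm) ((Over.forget S).mapIso (eqToIso e) ≪≫ t)
  have key : ∀ φ : Y₁ ⟶ Y, 𝒳.p.map φ = b →
      (eqToIso e.symm).hom ≫ 𝒳.p.map (K736.Fib.pullHom h𝒳 b) = 𝒳.p.map φ := by
    intro φ hφ
    rw [K736.Fib.map_pullHom, hφ]
    simp
  refine Finite.of_injective (fun φ : {φ : Y₁ ⟶ Y // 𝒳.p.map φ = b} =>
    (⟨K736.Fib.lift h𝒳 (K736.Fib.pullHom h𝒳 b) φ.1 (eqToIso e.symm).hom (key φ.1 φ.2),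
      K736.Fib.map_lift h𝒳 _ _ _ _⟩ : {φ : Y₁ ⟶ K736.Fib.pull h𝒳 b // 𝒳.p.map φ = (eqToIso e.symm).hom})) ?_
  intro φ φ' h
  apply Subtype.ext
  have h1 := congrArg (fun ψ : {φ : Y₁ ⟶ K736.Fib.pull h𝒳 b // 𝒳.p.map φ = (eqToIso e.symm).hom} =>
    ψ.1 ≫ K736.Fib.pullHom h𝒳 b) h
  simpa only [K736.Fib.lift_comp] using h1

include h𝒳 in
/-- The base of a product has finite geometric fibres over the product of the bases. -/
theorem finite_lifts (hAut : ∀ (Ω : Type u) [Field Ω] [IsAlgClosed Ω] (Y₁ Y₂ : 𝒳.obj) (b : 𝒳.p.obj Y₁ ≅ 𝒳.p.obj Y₂)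
      (_ : (𝒳.p.obj Y₂).left ≅ Spec (CommRingCat.of Ω)), Finite {φ : Y₁ ⟶ Y₂ // 𝒳.p.map φ = b.hom})
    {A Y Z : 𝒳.obj} (α : Z ⟶ A) (β : Z ⟶ Y)
    (hprod : ∀ (Z' : 𝒳.obj) (a : Z' ⟶ A) (b : Z' ⟶ Y), ∃! z : Z' ⟶ Z, z ≫ α = a ∧ z ≫ β = b)
    (Ω : Type u) [Field Ω] [IsAlgClosed Ω] (T : Over S) (t : T.left ≅ Spec (CommRingCat.of Ω))
    (a : T ⟶ 𝒳.p.obj A) (b : T ⟶ 𝒳.p.obj Y) :
    {s : T ⟶ 𝒳.p.obj Z | s ≫ 𝒳.p.map α = a ∧ s ≫ 𝒳.p.map β = b}.Finite := by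
  have e : 𝒳.p.obj (K736.Fib.pull h𝒳 a) = T := K736.Fib.pull_obj h𝒳 a
  have hfin := finite_hom_over h𝒳 hAut Ω (K736.Fib.pull h𝒳 a) Y ((Over.forget S).mapIso (eqToIso e) ≪≫ t)
    (eqToHom e ≫ b)
  have key : ∀ s : T ⟶ 𝒳.p.obj Z, s ≫ 𝒳.p.map α = a →
      (eqToHom e ≫ s) ≫ 𝒳.p.map α = 𝒳.p.map (K736.Fib.pullHom h𝒳 a) := by
    intro s hs
    rw [K736.Fib.map_pullHom, Category.assoc, hs]
  let m : ∀ s : {s : T ⟶ 𝒳.p.obj Z | s ≫ 𝒳.p.map α = a ∧ s ≫ 𝒳.p.map β = b}, K736.Fib.pull h𝒳 a ⟶ Z := fun s =>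
    K736.Fib.lift h𝒳 α (K736.Fib.pullHom h𝒳 a) (eqToHom e ≫ s.1) (key s.1 s.2.1)
  have hm : ∀ s, m s ≫ α = K736.Fib.pullHom h𝒳 a := fun s => K736.Fib.lift_comp h𝒳 _ _ _ _
  have hm' : ∀ s, 𝒳.p.map (m s) = eqToHom e ≫ s.1 := fun s => K736.Fib.map_lift h𝒳 _ _ _ _
  have hval : ∀ s, 𝒳.p.map (m s ≫ β) = eqToHom e ≫ b := by
    intro s
    rw [Functor.map_comp, hm', Category.assoc, s.2.2]
  have hfin' : Finite {s : T ⟶ 𝒳.p.obj Z | s ≫ 𝒳.p.map α = a ∧ s ≫ 𝒳.p.map β = b} := by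
    refine Finite.of_injective (fun s => (⟨m s ≫ β, hval s⟩ :
      {φ : K736.Fib.pull h𝒳 a ⟶ Y // 𝒳.p.map φ = eqToHom e ≫ b})) ?_
    intro s s' h
    have h1 : m s ≫ β = m s' ≫ β := congrArg Subtype.val h
    have h2 : m s = m s' :=
      (hprod _ (m s ≫ α) (m s ≫ β)).unique ⟨rfl, rfl⟩ ⟨(hm s').trans (hm s).symm, h1.symm⟩
    have h3 : eqToHom e ≫ s.1 = eqToHom e ≫ s'.1 := by
      rw [← hm', ← hm', h2]
    exact Subtype.ext ((cancel_epi (eqToHom e)).mp h3)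
  exact Set.toFinite _

include h𝒳 in
/-- The map from the base of a product to the product of the bases has algebraic residue field extensions. -/
theorem rtd_lift_eq_zero (hAut : ∀ (Ω : Type u) [Field Ω] [IsAlgClosed Ω] (Y₁ Y₂ : 𝒳.obj) (b : 𝒳.p.obj Y₁ ≅ 𝒳.p.obj Y₂)
      (_ : (𝒳.p.obj Y₂).left ≅ Spec (CommRingCat.of Ω)), Finite {φ : Y₁ ⟶ Y₂ // 𝒳.p.map φ = b.hom})
    {A Y Z : 𝒳.obj} (α : Z ⟶ A) (β : Z ⟶ Y)
    (hprod : ∀ (Z' : 𝒳.obj) (a : Z' ⟶ A) (b : Z' ⟶ Y), ∃! z : Z' ⟶ Z, z ≫ α = a ∧ z ≫ β = b)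
    [LocallyOfFiniteType (𝒳.p.map β).left]
    (w : (𝒳.p.map α).left ≫ (𝒳.p.obj A).hom = (𝒳.p.map β).left ≫ (𝒳.p.obj Y).hom) (p : (𝒳.p.obj Z).left) :
    rtd (pullback.lift (𝒳.p.map α).left (𝒳.p.map β).left w) p = 0 := by
  have : LocallyOfFiniteType (pullback.lift (𝒳.p.map α).left (𝒳.p.map β).left w) := by
    have h : LocallyOfFiniteType (pullback.lift (𝒳.p.map α).left (𝒳.p.map β).left w ≫ pullback.snd _ _) := by
      rw [pullback.lift_snd]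
      infer_instance
    exact locallyOfFiniteType_of_comp _ (pullback.snd (𝒳.p.obj A).hom (𝒳.p.obj Y).hom)
  refine QFin.rtd_eq_zero_of_finite _ ?_ p
  intro Ω _ _ y
  let T : Over S := Over.mk (y ≫ pullback.fst _ _ ≫ (𝒳.p.obj A).hom)
  let a : T ⟶ 𝒳.p.obj A := Over.homMk (y ≫ pullback.fst _ _) (by simp [T])
  let b : T ⟶ 𝒳.p.obj Y := Over.homMk (y ≫ pullback.snd _ _) (by simp [T, pullback.condition])
  refine ((finite_lifts h𝒳 hAut α β hprod Ω T (Iso.refl _) a b).image fun s => s.left).subset ?_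
  intro s hs
  have hs' : s ≫ pullback.lift (𝒳.p.map α).left (𝒳.p.map β).left w = y := hs
  have h1 : s ≫ (𝒳.p.map α).left = y ≫ pullback.fst _ _ := by
    rw [← hs', Category.assoc, pullback.lift_fst]
  have h2 : s ≫ (𝒳.p.map β).left = y ≫ pullback.snd _ _ := by
    rw [← hs', Category.assoc, pullback.lift_snd]
  refine ⟨(Over.homMk s (by
    rw [← Over.w (𝒳.p.map α), ← Category.assoc, h1, Category.assoc]
    rfl) : T ⟶ 𝒳.p.obj Z), ⟨?_, ?_⟩, rfl⟩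
  · exact Over.OverMorphism.ext h1
  · exact Over.OverMorphism.ext h2

end Lift

section Field

variable {k : Type u} [Field k] {𝒳 : BasedCategory.{u, w} (Over (Spec (CommRingCat.of k)))}

/-- Every point of a smooth chart of relative dimension `c` has a generization in its orbit of transcendence degree at
least `c`, if isomorphism sets over algebraically closed fields are finite. -/
theorem horb (h𝒳 : FibCat.IsFibGrpd 𝒳.p)
    (hAut : ∀ (Ω : Type u) [Field Ω] [IsAlgClosed Ω] (Y₁ Y₂ : 𝒳.obj) (b : 𝒳.p.obj Y₁ ≅ 𝒳.p.obj Y₂)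
      (_ : (𝒳.p.obj Y₂).left ≅ Spec (CommRingCat.of Ω)), Finite {φ : Y₁ ⟶ Y₂ // 𝒳.p.map φ = b.hom})
    {A : 𝒳.obj} [LocallyOfFiniteType (𝒳.p.obj A).hom] {c : ℕ} (hA : HasProd (SmRel c) A) (v : (𝒳.p.obj A).left) :
    ∃ v' : (𝒳.p.obj A).left, v' ⤳ v ∧ cls h𝒳 A v' = cls h𝒳 A v ∧ c ≤ DimSch.trd k (𝒳.p.obj A).left v' := by
  obtain ⟨Y, g, t, Z, α, β, hg, hgt, hprod, hβ⟩ := hA A v
  obtain ⟨σ, ⟨hσ1, hσ2⟩, -⟩ := hprod Y g (𝟙 Y)
  have hsm : Smooth (𝒳.p.map β).left := hβ.1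
  have ht1 : (𝒳.p.map α).left ((𝒳.p.map σ).left t) = v := by
    rw [← Scheme.Hom.comp_apply, ← Over.comp_left, ← Functor.map_comp, hσ1, hgt]
  have ht2 : (𝒳.p.map β).left ((𝒳.p.map σ).left t) = t := by
    rw [← Scheme.Hom.comp_apply, ← Over.comp_left, ← Functor.map_comp, hσ2, CategoryTheory.Functor.map_id, Over.id_left]
    rfl
  obtain ⟨p, hp1, hp2, hp3⟩ := K125.FibDims.exists_rtd_eq_fibreDimAt (𝒳.p.map β).left ((𝒳.p.map σ).left t) c (hβ.2 _)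
  rw [ht2] at hp2
  refine ⟨(𝒳.p.map α).left p, ?_, ?_, ?_⟩
  · rw [← ht1]
    exact hp1.map (𝒳.p.map α).left.continuous
  · rw [cls_map, ← ht1, cls_map, ← cls_map h𝒳 β, hp2, ← cls_map h𝒳 β, ht2]
  · have w : (𝒳.p.map α).left ≫ (𝒳.p.obj A).hom = (𝒳.p.map β).left ≫ (𝒳.p.obj Y).hom :=
      (Over.w _).trans (Over.w _).symm
    have h0 := rtd_lift_eq_zero h𝒳 hAut α β hprod w p
    set f := pullback.lift (𝒳.p.map α).left (𝒳.p.map β).left w with hf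
    have h1 : rtd (𝒳.p.obj Z).hom p = rtd (𝒳.p.obj Y).hom t + c := by
      rw [← Over.w (𝒳.p.map β), rtd_comp, hp2, hp3]
    have h2 : rtd (𝒳.p.obj Z).hom p = rtd (𝒳.p.obj A).hom ((𝒳.p.map α).left p) + rtd (𝒳.p.map α).left p := by
      rw [← Over.w (𝒳.p.map α), rtd_comp]
    have h3 : rtd (𝒳.p.map α).left p = rtd (pullback.fst (𝒳.p.obj A).hom (𝒳.p.obj Y).hom) (f p) := by
      have h4 : f ≫ pullback.fst (𝒳.p.obj A).hom (𝒳.p.obj Y).hom = (𝒳.p.map α).left := pullback.lift_fst _ _ _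
      rw [← h4, rtd_comp, h0, add_zero]
    have h5 : rtd (pullback.fst (𝒳.p.obj A).hom (𝒳.p.obj Y).hom) (f p) ≤ rtd (𝒳.p.obj Y).hom t := by
      have h6 := Groth.Agent.Sga2lef.H98.Rtd.rtd_snd_le
        (IsPullback.of_hasPullback (𝒳.p.obj A).hom (𝒳.p.obj Y).hom).flip (f p)
      have h7 : (pullback.snd (𝒳.p.obj A).hom (𝒳.p.obj Y).hom) (f p) = t := by
        rw [← Scheme.Hom.comp_apply, hf, pullback.lift_snd, hp2]
      rwa [h7] at h6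
    have hlft : LocallyOfFiniteType (𝒳.p.obj Y).hom := by
      rw [← Over.w (𝒳.p.map g)]
      infer_instance
    rw [h2, h3] at h1
    rw [rtd_hom_eq_trd (𝒳.p.obj A)] at h1
    rw [rtd_hom_eq_trd (𝒳.p.obj Y)] at h1 h5
    have h8 : ((DimSch.trd k (𝒳.p.obj Y).left t : ℕ) : Cardinal.{u}) + c ≤
        (DimSch.trd k (𝒳.p.obj A).left ((𝒳.p.map α).left p) : ℕ) + (DimSch.trd k (𝒳.p.obj Y).left t : ℕ) := by
      rw [← h1]
      exact add_le_add_right h5 _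
    have h9 : DimSch.trd k (𝒳.p.obj Y).left t + c ≤
        DimSch.trd k (𝒳.p.obj A).left ((𝒳.p.map α).left p) + DimSch.trd k (𝒳.p.obj Y).left t := by
      exact_mod_cast h8
    omega

end Field

end K393.Horb
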