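import Groth.Agent.Fano.K393.Horb
import Groth.Agent.Fano.K314.AutFin

/-!
# Orbits of smooth charts of the stack of stable maps
-/

set_option autoImplicit false
set_option backward.isDefEq.respectTransparency false
set_option backward.isDefEq.respectTransparency.types false

universe u

open CategoryTheory CategoryTheory.Limits AlgebraicGeometry Opposite TopologicalSpace

namespace K393.HorbMap

open Groth.Agent Groth.Agent.VarietyB K393.ObjChart K393.RelDimP

variable {k : Type u} [Field k] [CharZero k] {X : Over (Spec (CommRingCat.of k))} [IsSeparated X.hom]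
  {L : X.left.Modules} {n : ℕ} {d : ℤ}

/-- Every point of a smooth chart of relative dimension `c` of the stack of stable maps of genus zero has a
generization in its orbit of transcendence degree at least `c`. -/
theorem horb_mapSt (h𝒳 : FibCat.IsFibGrpd (StMap.MapSt (Spec (CommRingCat.of k)) X L 0 n d).p)
    {A : (StMap.MapSt (Spec (CommRingCat.of k)) X L 0 n d).obj}
    [LocallyOfFiniteType ((StMap.MapSt (Spec (CommRingCat.of k)) X L 0 n d).p.obj A).hom] {c : ℕ}
    (hA : HasProd (SmRel c) A) (v : ((StMap.MapSt (Spec (CommRingCat.of k)) X L 0 n d).p.obj A).left) :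
    ∃ v' : ((StMap.MapSt (Spec (CommRingCat.of k)) X L 0 n d).p.obj A).left, v' ⤳ v ∧ cls h𝒳 A v' = cls h𝒳 A v ∧
      c ≤ DimSch.trd k ((StMap.MapSt (Spec (CommRingCat.of k)) X L 0 n d).p.obj A).left v' :=
  K393.Horb.horb h𝒳 (fun Ω _ _ Y₁ Y₂ b t => K314.AutFin.finite_hom_of_field Y₁ Y₂ b t) hA v

end K393.HorbMap
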