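import Groth.Agent.Fano.K980.QuotTop
import Groth.Agent.Flat2D.DimMap
import Mathlib.AlgebraicGeometry.Noetherian

/-!
# Continuous open maps from locally Noetherian schemes

Let `π i : V i → P` be continuous open maps from locally Noetherian schemes to a topological space `P`, jointly
surjective.

* `exists_generic`: generic points of the components of the preimage of a closed irreducible subset.
* `quasiSober`: `P` is quasi-sober.
* `exists_generization`: if `P` is `T0`, the `π i` lift generizations.
* `t0Space`: if the fibres of the `π i` are images of Noetherian sober spaces, then `P` is `T0`.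
* `coheight_eq`, `topologicalKrullDim_eq`: if the fibres of the `π i` contain no nontrivial specializations, then
  the dimension of `P` is the supremum of the dimensions of the `V i`.
-/

set_option autoImplicit false

universe v u

open CategoryTheory AlgebraicGeometry TopologicalSpace Order Topology

namespace K393.OpenMap

theorem exists_generic {V : Scheme.{u}} [IsLocallyNoetherian V] {P : Type*} [TopologicalSpace P] {π : V → P}
    (hc : Continuous π) (ho : IsOpenMap π) {N : Set P} (hN : IsIrreducible N) (hNc : IsClosed N) (x : V)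
    (hx : π x ∈ N) : ∃ y : V, y ⤳ x ∧ closure {π y} = N ∧ ∀ q : V, π q ∈ N → q ⤳ y → q = y := by
  obtain ⟨W, hW, hxW, -⟩ := exists_isAffineOpen_mem_and_subset (X := V) (x := x) (U := ⊤) trivial
  have : IsLocallyNoetherian W.toScheme := inferInstance
  have : CompactSpace W.toScheme := isCompact_iff_compactSpace.mp hW.isCompact
  have : IsNoetherian W.toScheme := {}
  have hNS : NoetherianSpace W.toScheme := inferInstance
  have hcW : Continuous (fun w : W.toScheme => π w.1) := hc.comp continuous_subtype_val
  have hoW : IsOpenMap (fun w : W.toScheme => π w.1) := ho.comp W.2.isOpenMap_subtype_val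
  obtain ⟨y, hy1, hy2, hy3, hy4⟩ := K980.QuotTop.exists_generic (T := W.toScheme) (fun w => π w.1) hcW hoW N hN hNc
    ⟨x, hxW⟩ hx
  refine ⟨y.1, hy1.map continuous_subtype_val, hy3, fun q hq hqy => ?_⟩
  have hqW : q ∈ W := hqy.mem_open W.2 y.2
  exact congrArg Subtype.val (hy4 ⟨q, hqW⟩ hq (W.2.isOpenEmbedding_subtypeVal.isInducing.specializes_iff.mp hqy))

section Family

variable {ι : Type v} {V : ι → Scheme.{u}} [∀ i, IsLocallyNoetherian (V i)] {P : Type*} [TopologicalSpace P]
  {π : ∀ i, V i → P}

theorem quasiSober (hc : ∀ i, Continuous (π i)) (ho : ∀ i, IsOpenMap (π i)) (hs : ∀ p : P, ∃ i, ∃ v, π i v = p) :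
    QuasiSober P := by
  refine ⟨fun {N} hN hNc => ?_⟩
  obtain ⟨p, hp⟩ := hN.1
  obtain ⟨i, v, rfl⟩ := hs p
  obtain ⟨y, -, hy, -⟩ := exists_generic (hc i) (ho i) hN hNc v hp
  exact ⟨π i y, hy⟩

omit [∀ i, IsLocallyNoetherian (V i)] in
theorem isClosed_closure_singleton_eq {p q : P} (h : closure {p} = closure {q}) : p ⤳ q ∧ q ⤳ p := by
  constructor
  · rw [specializes_iff_mem_closure, h]; exact subset_closure rfl
  · rw [specializes_iff_mem_closure, ← h]; exact subset_closure rfl

/-- A continuous open map from a locally Noetherian scheme to a `T0` space lifts generizations. -/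
theorem exists_generization [T0Space P] {V : Scheme.{u}} [IsLocallyNoetherian V] {π : V → P}
    (hc : Continuous π) (ho : IsOpenMap π) {v : V} {p : P} (h : p ⤳ π v) :
    ∃ y : V, y ⤳ v ∧ π y = p ∧ ∀ q : V, q ⤳ y → p ⤳ π q → q = y := by
  obtain ⟨y, hy1, hy2, hy3⟩ := exists_generic hc ho (N := closure {p}) isIrreducible_singleton.closure isClosed_closure v
    (specializes_iff_mem_closure.mp h)
  refine ⟨y, hy1, ?_, fun q hq hpq => hy3 q (specializes_iff_mem_closure.mp hpq) hq⟩
  obtain ⟨h1, h2⟩ := isClosed_closure_singleton_eq hy2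
  exact (h1.antisymm h2).eq

/-- `T0` from the structure of the fibres. -/
theorem t0Space (hc : ∀ i, Continuous (π i)) (ho : ∀ i, IsOpenMap (π i)) (hs : ∀ p : P, ∃ i, ∃ v, π i v = p)
    (hf : ∀ i (v : V i), ∃ (T : Type u) (_ : TopologicalSpace T) (_ : NoetherianSpace T)
      (_ : QuasiSober T) (g : T → V i), Continuous g ∧ Set.range g = π i ⁻¹' {π i v}) : T0Space P := by
  refine ⟨fun {a b} hab => ?_⟩
  obtain ⟨i, v, rfl⟩ := hs a
  have hba : b ⤳ π i v := hab.symm.specializes
  obtain ⟨v', rfl⟩ : b ∈ Set.range (π i) := hba.mem_open (ho i).isOpen_range ⟨v, rfl⟩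
  -- the closure of the fibre over a point
  have hcl : ∀ p : P, closure (π i ⁻¹' {p}) = π i ⁻¹' (closure {p}) := fun p =>
    ((ho i).preimage_closure_eq_closure_preimage (hc i) {p}).symm
  obtain ⟨y, hy1, hy2, hy3⟩ := exists_generic (hc i) (ho i) (N := closure {π i v}) isIrreducible_singleton.closure
    isClosed_closure v (subset_closure rfl)
  have key : ∀ w : V i, closure {π i w} = closure {π i v} → π i y = π i w := by
    intro w hpcl
    obtain ⟨T, _, _, _, g, hg, hgr⟩ := hf i w
    obtain ⟨S, hSfin, hSc, hSi, hS⟩ := NoetherianSpace.exists_finite_set_isClosed_irreducible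
      (isClosed_univ (X := T))
    have hycl : y ∈ closure (Set.range g) := by
      rw [hgr, hcl, hpcl, Set.mem_preimage, ← hy2]
      exact subset_closure rfl
    have h1 : Set.range g = ⋃ Z ∈ S, g '' Z := by
      rw [← Set.image_univ, hS, Set.sUnion_eq_biUnion, Set.image_iUnion₂]
    rw [h1, hSfin.closure_biUnion] at hycl
    obtain ⟨Z, hZ, hyZ⟩ := Set.mem_iUnion₂.mp hycl
    obtain ⟨t, ht⟩ := QuasiSober.sober (hSi Z hZ) (hSc Z hZ)
    have h2 : IsGenericPoint (g t) (closure (g '' Z)) := ht.image hg
    have h3 : g t ⤳ y := h2.specializes hyZ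
    have h4 : π i (g t) = π i w := by
      have : g t ∈ π i ⁻¹' {π i w} := hgr ▸ Set.mem_range_self t
      exact this
    have h5 := hy3 (g t) (by rw [h4, ← hpcl]; exact subset_closure rfl) h3
    rw [← h5, h4]
  have e1 := key v rfl
  have e2 := key v' (by
    apply Set.Subset.antisymm
    · exact closure_minimal (Set.singleton_subset_iff.mpr (specializes_iff_mem_closure.mp hab.specializes)) isClosed_closure
    · exact closure_minimal (Set.singleton_subset_iff.mpr (specializes_iff_mem_closure.mp hba)) isClosed_closure)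
  rw [← e1, ← e2]

end Family

section Dim

attribute [local instance] specializationOrder

theorem coheight_eq {P : Type*} [TopologicalSpace P] [T0Space P] {V : Scheme.{u}} [IsLocallyNoetherian V] {π : V → P}
    (hc : Continuous π) (ho : IsOpenMap π) (hinj : ∀ x y : V, x ⤳ y → π x = π y → x = y) (v : V) :
    coheight v = coheight (π v) := by
  refine Order.coheight_eq_of_strictMono π ?_ ?_ v
  · intro a b hab
    rw [lt_iff_le_not_ge] at hab ⊢
    have hs : b ⤳ a := hab.1
    refine ⟨hs.map hc, fun h => hab.2 ?_⟩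
    have hba : π a ⤳ π b := h
    have he : π b = π a := ((hs.map hc).antisymm hba).eq
    rw [hinj b a hs he]
  · intro a b hab
    have hs : b ⤳ π a := hab.le
    obtain ⟨c, hc', hcb, -⟩ := exists_generization hc ho hs
    refine ⟨c, lt_of_le_not_ge hc' ?_, hcb⟩
    intro h
    apply hab.not_ge
    have hac : a ⤳ c := h
    have := hac.map hc
    rw [hcb] at this
    exact this

theorem topologicalKrullDim_eq_iSup (P : Type*) [TopologicalSpace P] [QuasiSober P] [T0Space P] :
    topologicalKrullDim P = ⨆ x : P, ((coheight x : ℕ∞) : WithBot ℕ∞) :=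
  (Order.krullDim_eq_of_orderIso irreducibleSetEquivPoints).trans Order.krullDim_eq_iSup_coheight

theorem topologicalKrullDim_eq {ι : Type v} {V : ι → Scheme.{u}} [∀ i, IsLocallyNoetherian (V i)] {P : Type*}
    [TopologicalSpace P] [T0Space P] {π : ∀ i, V i → P} (hc : ∀ i, Continuous (π i)) (ho : ∀ i, IsOpenMap (π i))
    (hs : ∀ p : P, ∃ i, ∃ v, π i v = p) (hinj : ∀ i, ∀ x y : V i, x ⤳ y → π i x = π i y → x = y) :
    topologicalKrullDim P = ⨆ i, topologicalKrullDim (V i) := by
  have := quasiSober hc ho hs
  rw [topologicalKrullDim_eq_iSup P]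
  apply le_antisymm
  · refine iSup_le fun p => ?_
    obtain ⟨i, v, rfl⟩ := hs p
    refine le_trans ?_ (le_iSup _ i)
    rw [topologicalKrullDim_eq_iSup (V i), ← coheight_eq (hc i) (ho i) (hinj i) v]
    exact le_iSup (fun x : V i => ((coheight x : ℕ∞) : WithBot ℕ∞)) v
  · refine iSup_le fun i => ?_
    rw [topologicalKrullDim_eq_iSup (V i)]
    refine iSup_le fun v => ?_
    rw [coheight_eq (hc i) (ho i) (hinj i) v]
    exact le_iSup (fun x : P => ((coheight x : ℕ∞) : WithBot ℕ∞)) (π i v)

end Dim

end K393.OpenMap
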