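import Groth.Agent.AlgSt.K743.Chart
import Groth.Agent.AlgSt.K736.Rep
import Groth.Agent.AlgSt.K735.Top

/-!
# Roofs between charts of a stack

* `K393.Roof.exists_roof`: for two charts `x : (Sch/U) ⟶ 𝒴` and `y : (Sch/W) ⟶ 𝒴`, representable with `LocP P`,
  respectively `LocP Q`, there is a scheme `Z` with a `Q`-morphism to `U` and a `P`-morphism to `W` such that a point
  of `U` and a point of `W` have the same image in `|𝒴|` if and only if some point of `Z` lies over both.
-/

set_option autoImplicit false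
set_option backward.isDefEq.respectTransparency false
set_option backward.isDefEq.respectTransparency.types false

universe v₃ u₃ v₂ u₂ v u

open CategoryTheory CategoryTheory.Limits AlgebraicGeometry Opposite

namespace K393.Roof

open AlgSt K735.Fib K735.Fp K735.Rep K735.Pts K743.Pt K743.Chart

variable {S : Scheme.{u}} {𝒴 : BasedCategory.{v₃, u₃} (Over S)}

theorem exists_roof {P Q : MorphismProperty Scheme.{u}} (h𝒴 : FibCat.IsFibGrpd 𝒴.p) {U W : Over S}
    {x : FibCat.overCat U ⥤ᵇ 𝒴} (hx : AlgSt.RepByAlgSpWith (AlgSp.LocP P) x)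
    {y : FibCat.overCat W ⥤ᵇ 𝒴} (hy : AlgSt.RepByAlgSpWith (AlgSp.LocP Q) y) :
    ∃ (Z : Over S) (p : Z ⟶ U) (q : Z ⟶ W), Q p.left ∧ P q.left ∧
      ∀ (u : ↥U.left) (w : ↥W.left), Points.ofChart x u = Points.ofChart y w ↔
        ∃ z : ↥Z.left, p.left z = u ∧ q.left z = w := by
  obtain ⟨F, e, he, hQ⟩ := hy U x
  obtain ⟨Z, a, ha1, ha2⟩ := F.property.atlas
  obtain ⟨s, hs, ⟨i⟩⟩ := exists_overMap_of_sp a (BasedFunctor.comp e (FibCat.fpFst x y))
  obtain ⟨r, hr, ⟨j⟩⟩ := exists_overMap_of_sp a (BasedFunctor.comp e (FibCat.fpSnd x y))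
  have := K735.Top.locP_respectsIso (S := S) P
  have he' : FibCat.IsEquivOver (BasedFunctor.comp e (fpSwap x y)) :=
    IsEquivOver.comp he (isEquivOver_fpSwap x y)
  obtain ⟨-, hP⟩ := K736.Rep.prop_of_isBC (K736.Rep.IsoInv.of_respectsIso _) hx (K736.Rep.isBC_spMapOfOver (U := W) (y := y) (f := x) he')
  refine ⟨Z, s, r, ?_, ?_, ?_⟩
  · refine hQ a (𝟙 _) s ha1 (AlgSp.repWith_id _ U) ?_
    rw [Category.comp_id]
    exact hs.symm
  · refine hP a (𝟙 _) r ha1 (AlgSp.repWith_id _ W) ?_
    rw [Category.comp_id]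
    exact hr.symm
  · intro u w
    have key : ∀ z : ↥Z.left, Points.ofChart x (s.left z) = Points.ofChart y (r.left z) := by
      intro z
      rw [ofChart_eq, ofChart_eq, ← map_overMap_pt, ← map_overMap_pt, ← map_congr i, ← map_congr j]
      rw [← map_comp, ← map_comp]
      exact map_congr (K735.Fib.whiskerLeftIso
        (BasedFunctor.comp (AlgSt.ofOverCat Z) (BasedFunctor.comp (AlgSt.ofSpMap a) e)) (FibCat.fpIso x y)) (pt z)
    constructor
    · intro h
      obtain ⟨t, ht1, ht2⟩ := exists_fp (isFibGrpd_overCat W) (isFibGrpd_overCat U) h𝒴 x y (pt u) (pt w) h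
      have h1 := (map_bijective_of_isEquivOver (isEquivOver_ofOverCat Z)).surjective
      have h2 := surjective_map_ofSpMap a ha2
      have h3 := (map_bijective_of_isEquivOver he).surjective
      obtain ⟨t1, rfl⟩ := h3 t
      obtain ⟨t2, rfl⟩ := h2 t1
      obtain ⟨t3, rfl⟩ := h1 t2
      obtain ⟨z, rfl⟩ : ∃ z, pt z = t3 := ⟨toPt t3, pt_toPt t3⟩
      refine ⟨z, pt_injective ?_, pt_injective ?_⟩
      · rw [← map_overMap_pt, ← map_congr i, map_comp, map_comp, map_comp]
        exact ht1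
      · rw [← map_overMap_pt, ← map_congr j, map_comp, map_comp, map_comp]
        exact ht2
    · rintro ⟨z, rfl, rfl⟩
      exact key z

end K393.Roof
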