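import Groth.Agent.Fano.K393.SliceCore
import Groth.Agent.Fano.K239.HonOrb
import Groth.Agent.Fano.K119.HonM
import Groth.Agent.Fano.K351.HonP
import Groth.Agent.Fano.K384.HonLine

/-!
# The slice through a map to a line

* `exists_slice`: in the base of the universal family over the chart of maps from the projective line, the subscheme given by the four
  normalisations at a map to a line.
-/

set_option autoImplicit false
set_option backward.isDefEq.respectTransparency false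
set_option backward.isDefEq.respectTransparency.types false

universe u

open CategoryTheory CategoryTheory.Limits AlgebraicGeometry
open Groth.Agent Groth.Agent.VarietyB

namespace K393.Slice

open K390.PnSec Groth.Agent.Fdesc.LocGen Groth.Agent.Dix.ProjProper
open K188.LineDef K188.LinFun K745.ConDef K505.KonDef K239.HonDef K239.HonGen W4swstmapratcurves K11.UnivKit
open K798.TwBin K393.ObjChart

section Bin

/-- The value of a binary form. -/
def bw {A : Type*} [CommRing A] {e : ℕ} (a : Fin (e + 1) → A) (s t : A) : A := ∑ j, a j * (s ^ (e - (j : ℕ)) * t ^ (j : ℕ))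

theorem map_bw {A B : Type*} [CommRing A] [CommRing B] (ψ : A →+* B) {e : ℕ} (a : Fin (e + 1) → A) (s t : A) :
    ψ (bw a s t) = bw (fun j => ψ (a j)) (ψ s) (ψ t) := by
  simp only [bw, map_sum, map_mul, map_pow]

/-- The form `a X_0^e + b X_1^e`. -/
def fe {A : Type*} [CommRing A] (e : ℕ) (a b : A) (j : Fin (e + 1)) : A := (if j = 0 then a else 0) + (if j = Fin.last e then b else 0)

theorem bw_fe {A : Type*} [CommRing A] (e : ℕ) (a b s t : A) : bw (fe e a b) s t = a * s ^ e + b * t ^ e := by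
  unfold bw fe
  simp only [add_mul, Finset.sum_add_distrib, ite_mul, zero_mul, Finset.sum_ite_eq', Finset.mem_univ, if_true]
  simp

theorem fe_zero {A : Type*} [CommRing A] {e : ℕ} (he : 1 ≤ e) (a b : A) : fe e a b 0 = a := by
  have h : (0 : Fin (e + 1)) ≠ Fin.last e := by
    intro h
    have := congrArg Fin.val h
    simp at this
    omega
  simp [fe, h]

theorem fe_last {A : Type*} [CommRing A] {e : ℕ} (he : 1 ≤ e) (a b : A) : fe e a b (Fin.last e) = b := by
  have h : Fin.last e ≠ (0 : Fin (e + 1)) := by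
    intro h
    have := congrArg Fin.val h
    simp at this
    omega
  simp [fe, h]

/-- Dual linear forms. -/
theorem exists_dual {k : Type*} [Field k] {N : ℕ} {a b : Fin N → k} (h : LinearIndependent k ![a, b]) :
    ∃ α β : Fin N → k, ∑ i, α i * a i = 1 ∧ ∑ i, α i * b i = 0 ∧ ∑ i, β i * a i = 0 ∧ ∑ i, β i * b i = 1 := by
  obtain ⟨g, hg⟩ := LinearMap.exists_leftInverse_of_injective (Fintype.linearCombination k ![a, b])
    (LinearMap.ker_eq_bot.mpr (linearIndependent_iff_injective_fintypeLinearCombination.mp h))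
  have h1 : ∀ (v : Fin N → k) (j : Fin 2), ∑ i, g (fun l => if i = l then 1 else 0) j * v i = g v j := by
    intro v j
    rw [LinearMap.pi_apply_eq_sum_univ g v, Finset.sum_apply]
    refine Finset.sum_congr rfl fun i _ => ?_
    rw [Pi.smul_apply, smul_eq_mul, mul_comm]
  have ha : g a = Pi.single 0 1 := by
    have h2 := LinearMap.congr_fun hg (Pi.single 0 1)
    simpa [Fintype.linearCombination_apply] using h2
  have hb : g b = Pi.single 1 1 := by
    have h2 := LinearMap.congr_fun hg (Pi.single 1 1)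
    simpa [Fintype.linearCombination_apply] using h2
  refine ⟨fun i => g (fun l => if i = l then 1 else 0) 0, fun i => g (fun l => if i = l then 1 else 0) 1, ?_, ?_, ?_, ?_⟩
  · rw [h1, ha]; simp
  · rw [h1, hb]; simp
  · rw [h1, ha]; simp
  · rw [h1, hb]; simp

theorem exists_points (k : Type*) [Field k] [Infinite k] (r : ℕ) :
    ∃ x : Fin r → k, (∀ i, x i ≠ 0) ∧ (∀ i, x i ≠ 1) ∧ Function.Injective x := by
  have h1 : ({0, 1} : Set k)ᶜ.Infinite := (Set.toFinite _).infinite_compl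
  have h2 : Infinite ↥(({0, 1} : Set k)ᶜ) := h1.to_subtype
  let f := Infinite.natEmbedding ↥(({0, 1} : Set k)ᶜ)
  refine ⟨fun i => (f i : k), fun i h => ?_, fun i h => ?_, fun i j h => ?_⟩
  · exact (f i).2 (Or.inl h)
  · exact (f i).2 (Or.inr h)
  · exact Fin.ext (f.injective (Subtype.ext h))

end Bin

section Points

theorem mem_basicOpen_field {T : Scheme.{u}} {k : Type u} [Field k] (y : Spec (CommRingCat.of k) ⟶ T) (a : Γ(T, ⊤))
    (z : Spec (CommRingCat.of k)) : y z ∈ T.basicOpen a ↔ (Scheme.ΓSpecIso (CommRingCat.of k)).hom (y.appTop a) ≠ 0 := by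
  have h1 : y ⁻¹ᵁ (T.basicOpen a) = (Spec (CommRingCat.of k)).basicOpen (y.appTop a) := Scheme.preimage_basicOpen_top y a
  have h2 : y z ∈ T.basicOpen a ↔ z ∈ y ⁻¹ᵁ (T.basicOpen a) := Iff.rfl
  rw [h2, h1, basicOpen_eq_of_affine']
  have h3 : (show PrimeSpectrum k from z).asIdeal = ⊥ := Ideal.eq_bot_of_prime _
  change (Scheme.ΓSpecIso (CommRingCat.of k)).hom (y.appTop a) ∉ (show PrimeSpectrum k from z).asIdeal ↔ _
  rw [h3]
  exact Iff.not Ideal.mem_bot

theorem mem_basicOpen_affine {T : Scheme.{u}} {A : CommRingCat.{u}} (j : T ⟶ Spec A) (a : A) (x : T) :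
    x ∈ T.basicOpen (j.appTop ((Scheme.ΓSpecIso A).inv a)) ↔ a ∉ (show PrimeSpectrum A from j x).asIdeal := by
  have h1 : j ⁻¹ᵁ ((Spec A).basicOpen ((Scheme.ΓSpecIso A).inv a)) = T.basicOpen (j.appTop ((Scheme.ΓSpecIso A).inv a)) :=
    Scheme.preimage_basicOpen_top j _
  rw [← h1, basicOpen_eq_of_affine]
  rfl

end Points

section Fun

variable {k : Type u} [Field k] {r m n d e : ℕ} {G : LefPen.Form n k d} {c : CrvChart k (r + m)}

/-- Constants. -/
noncomputable def κ (ℓ : LinChart c G e) : k →+* ℓ.RV := (Ideal.Quotient.mk _).comp (MvPolynomial.C.comp (kmap c.U.hom))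

/-- The coordinates of the matrix. -/
noncomputable def XX (ℓ : LinChart c G e) (l : Fin (n + 1)) (i : Fin (e + 1)) : ℓ.RV := Ideal.Quotient.mk _ (MvPolynomial.X (l, i))

/-- The equation `Σ_i l_i φ_i(s, t) = a`. -/
noncomputable def eqn (ℓ : LinChart c G e) (l : Fin (n + 1) → k) (s t a : k) : ℓ.RV :=
  ∑ i, κ ℓ (l i) * bw (fun j => XX ℓ i j) (κ ℓ s) (κ ℓ t) - κ ℓ a

/-- The function `Σ_i l_i φ_{i,j}`. -/
noncomputable def cf (ℓ : LinChart c G e) (l : Fin (n + 1) → k) (j : Fin (e + 1)) : ℓ.RV := ∑ i, κ ℓ (l i) * XX ℓ i j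

theorem map_eqn (ℓ : LinChart c G e) {B : Type*} [CommRing B] (ψ : ℓ.RV →+* B) (l : Fin (n + 1) → k) (s t a : k) :
    ψ (eqn ℓ l s t a) = ∑ i, ψ (κ ℓ (l i)) * bw (fun j => ψ (XX ℓ i j)) (ψ (κ ℓ s)) (ψ (κ ℓ t)) - ψ (κ ℓ a) := by
  unfold eqn
  simp only [map_sub, map_sum, map_mul, map_bw]

theorem map_cf (ℓ : LinChart c G e) {B : Type*} [CommRing B] (ψ : ℓ.RV →+* B) (l : Fin (n + 1) → k) (j : Fin (e + 1)) :
    ψ (cf ℓ l j) = ∑ i, ψ (κ ℓ (l i)) * ψ (XX ℓ i j) := by
  unfold cf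
  simp only [map_sum, map_mul]

variable {ℓ : LinChart c G e} (Un : Univ ℓ)

/-- Functions on the base of the universal family. -/
noncomputable def FN : ℓ.RV →+* Γ(Un.A.obj.base.left, ⊤) :=
  Un.j.appTop.hom.comp (Scheme.ΓSpecIso (CommRingCat.of ℓ.RV)).inv.hom

theorem FN_XX (l : Fin (n + 1)) (i : Fin (e + 1)) : FN Un (XX ℓ l i) = Un.D.φ l i := j_mk_X ℓ Un l i

theorem kmap_comp {T U : Scheme.{u}} (f : T ⟶ U) (q : U ⟶ Spec (CommRingCat.of k)) (a : k) :
    f.appTop (kmap q a) = kmap (f ≫ q) a := by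
  unfold kmap
  rw [Scheme.Hom.comp_appTop]
  rfl

theorem FN_κ (a : k) : FN Un (κ ℓ a) = kmap Un.A.obj.base.hom a := by
  have h1 : FN Un (κ ℓ a) = (bs Un.D).left.appTop (kmap c.U.hom a) := j_mk_C ℓ Un (kmap c.U.hom a)
  rw [h1, kmap_comp, Over.w]

theorem mem_basicOpen_FN (z : ℓ.RV) (x : Un.A.obj.base.left) :
    x ∈ Un.A.obj.base.left.basicOpen (FN Un z) ↔ z ∉ (show PrimeSpectrum ℓ.RV from Un.j x).asIdeal :=
  mem_basicOpen_affine (A := CommRingCat.of ℓ.RV) Un.j z x

theorem evaluation_FN_eq_zero {z : ℓ.RV} {x : Un.A.obj.base.left} (h : z ∈ (show PrimeSpectrum ℓ.RV from Un.j x).asIdeal) :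
    Un.A.obj.base.left.Γevaluation x (FN Un z) = 0 := by
  by_contra hne
  exact (mem_basicOpen_FN Un z x).mp ((Scheme.evaluation_ne_zero_iff_mem_basicOpen (U := ⊤) _ x trivial _).mp hne) h

/-- The structure morphism of the spectrum of `RV`. -/
noncomputable def qq (ℓ : LinChart c G e) : Spec (CommRingCat.of ℓ.RV) ⟶ Spec (CommRingCat.of k) := ℓ.toU ≫ c.U.hom

theorem j_qq : Un.j ≫ qq ℓ = Un.A.obj.base.hom := by
  unfold qq
  have h1 : (bs Un.D).left = Un.j ≫ ℓ.toU := Un.base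
  rw [← Category.assoc, ← h1, Over.w]

theorem locallyOfFiniteType_qq (ℓ : LinChart c G e) : LocallyOfFiniteType (qq ℓ) := by
  have h0 := c.isAffine
  have h1 : LocallyOfFiniteType c.U.hom := c.locallyOfFiniteType
  have h2 : Algebra.FiniteType c.R ℓ.RV := inferInstance
  have h3 : LocallyOfFiniteType (Spec.map (CommRingCat.ofHom (algebraMap c.R ℓ.RV))) := by
    rw [HasRingHomProperty.Spec_iff (P := @LocallyOfFiniteType)]
    exact RingHom.finiteType_algebraMap.mpr h2
  unfold qq LinChart.toU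
  infer_instance

attribute [local instance] Curv2.resAlgebra

theorem evaluation_κ (a : k) (x : Un.A.obj.base.left) :
    Un.A.obj.base.left.Γevaluation x (FN Un (κ ℓ a)) = algebraMap k (Un.A.obj.base.left.residueField x) a := by
  rw [FN_κ]
  rfl

end Fun

section Hon

variable {k : Type u} [Field k] {n d r e : ℕ} {G : LefPen.Form n k d} {hi : IsPre (B0 k r)} {hp : ProdB0 k r}
  {o : Oe G (QO k r).hom e} {ho : OeStab o} (Un : Univ (l0 (hi := hi) (hp := hp) o ho))

theorem hom_kmap_id (a : k) : (Scheme.ΓSpecIso (CommRingCat.of k)).hom (kmap (𝟙 (Spec (CommRingCat.of k))) a) = a := by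
  unfold kmap
  change (Scheme.ΓSpecIso (CommRingCat.of k)).hom ((𝟙 (Spec (CommRingCat.of k)) : _ ⟶ _).appTop
    ((Scheme.ΓSpecIso (CommRingCat.of k)).inv a)) = a
  rw [Scheme.Hom.id_appTop, CommRingCat.id_apply, ← CommRingCat.comp_apply, Iso.inv_hom_id, CommRingCat.id_apply]

/-- The point of the universal family given by a map to a line. -/
theorem exists_line_point [IsAlgClosed k] (he : 1 ≤ e) {a b : Fin (n + 1) → k} (hab : LinearIndependent k ![a, b])
    (hG : ∀ s t : k, MvPolynomial.eval (s • a + t • b) G.1 = 0) :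
    ∃ y : Spec (CommRingCat.of k) ⟶ Un.A.obj.base.left, y ≫ Un.A.obj.base.hom = 𝟙 _ ∧
      ∀ l j, (Scheme.ΓSpecIso (CommRingCat.of k)).hom (y.appTop (Un.D.φ l j)) = fe e (a l) (b l) j := by
  obtain ⟨x, hx0, hx1, hx2⟩ := exists_points k r
  have hvl : ∀ (l : Fin (n + 1)) (s t : k), K351.HonP.vl (fun l => fe e (a l) (b l)) l s t = a l * s ^ e + b l * t ^ e :=
    fun l s t => bw_fe e (a l) (b l) s t
  have hgen : ∀ s t : k, (s, t) ≠ 0 → ∃ l, K351.HonP.vl (fun l => fe e (a l) (b l)) l s t ≠ 0 := by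
    intro s t hst
    by_contra hcon
    push Not at hcon
    have h1 : s ^ e • a + t ^ e • b = 0 := by
      ext l
      have h2 := (hvl l s t).symm.trans (hcon l)
      simp only [Pi.add_apply, Pi.smul_apply, smul_eq_mul, Pi.zero_apply]
      linear_combination h2
    obtain ⟨h3, h4⟩ := LinearIndependent.pair_iff.mp hab _ _ h1
    have he0 : e ≠ 0 := by omega
    apply hst
    rw [Prod.mk_eq_zero]
    exact ⟨(pow_eq_zero_iff he0).mp h3, (pow_eq_zero_iff he0).mp h4⟩
  have hid : ((Scheme.ΓSpecIso (CommRingCat.of k)).hom.hom.comp (kmap (𝟙 (Spec (CommRingCat.of k))))) = RingHom.id k :=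
    RingHom.ext hom_kmap_id
  obtain ⟨Y, hY, D, -, hD⟩ := K351.HonP.exists_family (hi := hi) (hp := hp) o ho (𝟙 (Spec (CommRingCat.of k))) he x hx0 hx1 hx2
    (fun l => fe e (a l) (b l)) hgen (fun s t => by
      rw [hid]
      have h1 := hG (s ^ e) (t ^ e)
      rw [← MvPolynomial.eval₂_id] at h1
      convert h1 using 2
      ext l
      rw [hvl]
      simp only [Pi.add_apply, Pi.smul_apply, smul_eq_mul]
      ring)
  obtain ⟨g, hg, -⟩ := Un.univ Y D
  refine ⟨(eqToHom hY.symm ≫ g.hom.hom.base).left, Over.w (eqToHom hY.symm ≫ g.hom.hom.base), fun l j => ?_⟩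
  rw [← hD l j, hg.φ l j, Over.comp_left, Scheme.Hom.comp_appTop]
  rfl

/-- Evaluation at a rational point of the universal family. -/
noncomputable def evy (y : Spec (CommRingCat.of k) ⟶ Un.A.obj.base.left) : (l0 (hi := hi) (hp := hp) o ho).RV →+* k :=
  (Scheme.ΓSpecIso (CommRingCat.of k)).hom.hom.comp (y.appTop.hom.comp (FN Un))

theorem evy_κ (y : Spec (CommRingCat.of k) ⟶ Un.A.obj.base.left) (hy : y ≫ Un.A.obj.base.hom = 𝟙 _) (a : k) :
    evy Un y (κ _ a) = a := by
  have h1 : evy Un y (κ _ a) = (Scheme.ΓSpecIso (CommRingCat.of k)).hom (y.appTop (FN Un (κ _ a))) := rfl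
  rw [h1, FN_κ, kmap_comp, hy]
  exact hom_kmap_id a

theorem evy_XX (y : Spec (CommRingCat.of k) ⟶ Un.A.obj.base.left) (l : Fin (n + 1)) (j : Fin (e + 1)) :
    evy Un y (XX _ l j) = (Scheme.ΓSpecIso (CommRingCat.of k)).hom (y.appTop (Un.D.φ l j)) := by
  have h1 : evy Un y (XX _ l j) = (Scheme.ΓSpecIso (CommRingCat.of k)).hom (y.appTop (FN Un (XX _ l j))) := rfl
  rw [h1, FN_XX]

theorem mem_iff (y : Spec (CommRingCat.of k) ⟶ Un.A.obj.base.left) (z : (l0 (hi := hi) (hp := hp) o ho).RV)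
    (x : Spec (CommRingCat.of k)) :
    z ∈ (show PrimeSpectrum (l0 (hi := hi) (hp := hp) o ho).RV from Un.j (y x)).asIdeal ↔ evy Un y z = 0 := by
  have h1 := mem_basicOpen_FN Un z (y x)
  have h2 := mem_basicOpen_field y (FN Un z) x
  have h3 : evy Un y z = (Scheme.ΓSpecIso (CommRingCat.of k)).hom (y.appTop (FN Un z)) := rfl
  rw [h3]
  exact not_iff_not.mp (h1.symm.trans h2)

attribute [local instance] Curv2.resAlgebra

/-- The slice through a map to a line. -/
theorem exists_slice [IsAlgClosed k] (h𝒳 : FibCat.IsFibGrpd (Mst G r e).p) (he : 1 ≤ e) {a b : Fin (n + 1) → k}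
    (hab : LinearIndependent k ![a, b]) (hG : ∀ s t : k, MvPolynomial.eval (s • a + t • b) G.1 = 0) (D : ℕ)
    (HD4 : ∀ (f : Fin 4 → (l0 (hi := hi) (hp := hp) o ho).RV) (m : PrimeSpectrum (l0 (hi := hi) (hp := hp) o ho).RV),
      (∀ i, f i ∈ m.asIdeal) → ∃ p : PrimeSpectrum (l0 (hi := hi) (hp := hp) o ho).RV, p ≤ m ∧ (∀ i, f i ∈ p.asIdeal) ∧
        (D : WithBot ℕ∞) ≤ ringKrullDim ((l0 (hi := hi) (hp := hp) o ho).RV ⧸ p.asIdeal)) :
    ∃ (S : Over (Spec (CommRingCat.of k))) (_ : LocallyOfFiniteType S.hom) (i : S ⟶ Un.A.obj.base),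
      (D : WithBot ℕ∞) ≤ topologicalKrullDim S.left ∧
      (∀ s : S.left, ∃ q : Un.A.obj.base.left, cls h𝒳 Un.A q = cls h𝒳 Un.A (i.left s) ∧
        DimSch.trd k S.left s + 4 ≤ DimSch.trd k Un.A.obj.base.left q) ∧
      ∀ s : S.left, DimSch.trd k Un.A.obj.base.left (i.left s) ≤ DimSch.trd k S.left s := by
  have hopen := Un.isOpenImmersion
  have hqq := locallyOfFiniteType_qq (l0 (hi := hi) (hp := hp) o ho)
  have hlft : LocallyOfFiniteType Un.A.obj.base.hom := by
    rw [← j_qq Un]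
    infer_instance
  obtain ⟨y, hy, hyφ⟩ := exists_line_point Un he hab hG
  obtain ⟨α, β, hαa, hαb, hβa, hβb⟩ := exists_dual hab
  have hinf : Infinite k := IsAlgClosed.instInfinite
  let ℓ := l0 (hi := hi) (hp := hp) o ho
  let f : Fin 4 → ℓ.RV := ![eqn ℓ β 1 0 0, eqn ℓ (α - β) 1 1 0, eqn ℓ α 0 1 0, eqn ℓ α 1 0 1]
  have hev : ∀ (l : Fin (n + 1) → k) (s t c : k), evy Un y (eqn ℓ l s t c) =
      ∑ i, l i * (a i * s ^ e + b i * t ^ e) - c := by
    intro l s t c
    rw [map_eqn]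
    simp only [evy_κ Un y hy, evy_XX, hyφ, bw_fe]
  have hev2 : ∀ (l : Fin (n + 1) → k) (j : Fin (e + 1)), evy Un y (cf ℓ l j) = ∑ i, l i * fe e (a i) (b i) j := by
    intro l j
    rw [map_cf]
    simp only [evy_κ Un y hy, evy_XX, hyφ]
  have he0 : e ≠ 0 := by omega
  let pt : Spec (CommRingCat.of k) := IsLocalRing.closedPoint k
  let m : PrimeSpectrum ℓ.RV := Un.j (y pt)
  have hf : ∀ i, f i ∈ m.asIdeal := by
    intro i
    refine (mem_iff Un y (f i) pt).mpr ?_
    fin_cases i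
    · change evy Un y (eqn ℓ β 1 0 0) = 0
      rw [hev]
      simpa [he0] using hβa
    · change evy Un y (eqn ℓ (α - β) 1 1 0) = 0
      rw [hev]
      simp only [Pi.sub_apply, one_pow, mul_one, sub_mul, mul_add, Finset.sum_sub_distrib, Finset.sum_add_distrib,
        hαa, hαb, hβa, hβb]
      ring
    · change evy Un y (eqn ℓ α 0 1 0) = 0
      rw [hev]
      simpa [he0] using hαb
    · change evy Un y (eqn ℓ α 1 0 1) = 0
      rw [hev]
      simpa [he0, sub_eq_zero] using hαa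
  obtain ⟨p, hpm, hpf, hpD⟩ := HD4 f m hf
  let h : ℓ.RV := cf ℓ β (Fin.last e) * (cf ℓ (α - β) 0 * cf ℓ α 0)
  have hh : y pt ∈ Un.A.obj.base.left.basicOpen (FN Un h) := by
    rw [mem_basicOpen_FN]
    intro h1
    have h2 := (mem_iff Un y h pt).mp h1
    simp only [h, map_mul, hev2, fe_last he, fe_zero he, hβb, hαa, Pi.sub_apply, sub_mul, Finset.sum_sub_distrib, hβa] at h2
    norm_num at h2
  obtain ⟨S, hS, i, hi', hdim, hV, hU⟩ := K393.SliceCore.exists_slice (A := CommRingCat.of ℓ.RV) (qq ℓ) Un.j (j_qq Un) p (FN Un h) (y pt)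
    hpm hh
  refine ⟨S, hS, i, hpD.trans hdim, fun s => ?_, fun s => ?_⟩
  · have hs0 : ∀ l c s' t', eqn ℓ l s' t' c ∈ p.asIdeal →
        ∑ i', algebraMap k (Un.A.obj.base.left.residueField (i.left s)) (l i') *
          bv (K239.HonOrb.fv Un (i.left s) i') (algebraMap k _ s') (algebraMap k _ t') = algebraMap k _ c := by
      intro l c s' t' hmem
      have h1 := evaluation_FN_eq_zero Un (hV s hmem)
      have h2 := map_eqn ℓ ((Un.A.obj.base.left.Γevaluation (i.left s)).hom.comp (FN Un)) l s' t' c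
      have h3 := h2.symm.trans h1
      simp only [RingHom.comp_apply] at h3
      have h4 : ∀ a, (Un.A.obj.base.left.Γevaluation (i.left s)).hom (FN Un (κ ℓ a)) =
          algebraMap k (Un.A.obj.base.left.residueField (i.left s)) a := fun a => evaluation_κ Un a _
      simp only [h4, FN_XX, ℓ] at h3
      exact sub_eq_zero.mp h3
    have hs1 : ∀ l j, cf ℓ l j ∣ h → ∑ i', algebraMap k (Un.A.obj.base.left.residueField (i.left s)) (l i') *
        K239.HonOrb.fv Un (i.left s) i' j ≠ 0 := by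
      intro l j hdvd hzero
      have h1 := (Scheme.evaluation_ne_zero_iff_mem_basicOpen (U := ⊤) _ (i.left s) trivial (FN Un h)).mpr (hU s)
      obtain ⟨h', rfl'⟩ := hdvd
      apply h1
      have h2 := map_cf ℓ ((Un.A.obj.base.left.Γevaluation (i.left s)).hom.comp (FN Un)) l j
      simp only [RingHom.comp_apply] at h2
      have h4 : ∀ a, (Un.A.obj.base.left.Γevaluation (i.left s)).hom (FN Un (κ ℓ a)) =
          algebraMap k (Un.A.obj.base.left.residueField (i.left s)) a := fun a => evaluation_κ Un a _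
      simp only [h4, FN_XX, ℓ] at h2
      have h5 : (Un.A.obj.base.left.Γevaluation (i.left s)).hom (FN Un (cf ℓ l j)) = 0 := h2.trans hzero
      have h6 : (Un.A.obj.base.left.Γevaluation (i.left s)).hom (FN Un h) = 0 := by
        rw [rfl', map_mul, map_mul, h5, zero_mul]
      exact h6
    obtain ⟨q, hq1, hq2⟩ := K239.HonOrb.exists_orbit h𝒳 (fun q Y hY D a b c d' => K119.HonM.exists_datum_of_matrix o ho q Y hY D a b c d')
      Un he hlft (i.left s) β (α - β) α α
      (by simpa using hs0 β 0 1 0 (hpf 0)) (by simpa using hs0 (α - β) 0 1 1 (hpf 1)) (by simpa using hs0 α 0 0 1 (hpf 2))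
      (by simpa using hs0 α 1 1 0 (hpf 3))
      ⟨_, hs1 β (Fin.last e) (dvd_mul_right _ _)⟩ ⟨0, hs1 (α - β) 0 ((dvd_mul_right _ _).mul_left _)⟩
      ⟨0, hs1 α 0 ((dvd_mul_left _ _).mul_left _)⟩
    refine ⟨q, hq1, ?_⟩
    rw [K393.SliceCore.trd_immersion i s]
    exact hq2
  · exact (K393.SliceCore.trd_immersion i s).ge

/-- The slice, for hypersurfaces of degree at most `n - 1`. -/
theorem exists_slice' [IsAlgClosed k] (h𝒳 : FibCat.IsFibGrpd (Mst G r e).p) (he : 1 ≤ e) (hd : 1 ≤ d) (hdn : d + 1 ≤ n) (D : ℕ)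
    (HD4 : ∀ (f : Fin 4 → (l0 (hi := hi) (hp := hp) o ho).RV) (m : PrimeSpectrum (l0 (hi := hi) (hp := hp) o ho).RV),
      (∀ i, f i ∈ m.asIdeal) → ∃ p : PrimeSpectrum (l0 (hi := hi) (hp := hp) o ho).RV, p ≤ m ∧ (∀ i, f i ∈ p.asIdeal) ∧
        (D : WithBot ℕ∞) ≤ ringKrullDim ((l0 (hi := hi) (hp := hp) o ho).RV ⧸ p.asIdeal)) :
    ∃ (S : Over (Spec (CommRingCat.of k))) (_ : LocallyOfFiniteType S.hom) (i : S ⟶ Un.A.obj.base),
      (D : WithBot ℕ∞) ≤ topologicalKrullDim S.left ∧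
      (∀ s : S.left, ∃ q : Un.A.obj.base.left, cls h𝒳 Un.A q = cls h𝒳 Un.A (i.left s) ∧
        DimSch.trd k S.left s + 4 ≤ DimSch.trd k Un.A.obj.base.left q) ∧
      ∀ s : S.left, DimSch.trd k Un.A.obj.base.left (i.left s) ≤ DimSch.trd k S.left s := by
  obtain ⟨a, b, hab, h⟩ := K384.HonLine.exists_line (G := G.1) G.2 hd hdn
  exact exists_slice Un h𝒳 he hab h D HD4

end Hon

end K393.Slice
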