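import Groth.Agent.Fano.K393.ObjDim

/-!
# Slices of open subschemes of affine schemes

* `exists_slice`: `T` open in `Spec A` of finite type over `k`, `p` a prime of `A`, `h` a function on `T` not vanishing at some
  point of `T ∩ V(p)`: the scheme `S = T ∩ V(p) ∩ D(h)`.
-/

set_option autoImplicit false

universe u

open CategoryTheory CategoryTheory.Limits AlgebraicGeometry Opposite TopologicalSpace

namespace K393.SliceCore

open Groth.Agent Groth.Agent.VarietyB Groth.Agent.CycB.RelDim K393.ObjDim

variable {k : Type u} [Field k]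

theorem trd_le_dim (X : Over (Spec (CommRingCat.of k))) [h : LocallyOfFiniteType X.hom] (x : X.left) :
    (DimSch.trd k X.left x : WithBot ℕ∞) ≤ topologicalKrullDim X.left := by
  have : LocallyOfFiniteType (X.left ↘ Spec (CommRingCat.of k)) := h
  exact K426.DimKit.trd_le_dim k X.left x

theorem trd_immersion {X Y : Over (Spec (CommRingCat.of k))} [LocallyOfFiniteType X.hom] [LocallyOfFiniteType Y.hom]
    (f : X ⟶ Y) [IsPreimmersion f.left] (x : X.left) : DimSch.trd k X.left x = DimSch.trd k Y.left (f.left x) := by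
  have h1 : rtd X.hom x = rtd Y.hom (f.left x) := by
    rw [← Over.w f, rtd_comp, rtd_eq_zero_of_isPreimmersion f.left x, add_zero]
  rw [rtd_hom_eq_trd, rtd_hom_eq_trd] at h1
  exact_mod_cast h1

/-- The dimension of an integral affine scheme is the transcendence degree of its generic point. -/
theorem ringKrullDim_eq_trd {A : CommRingCat.{u}} [IsDomain A] (q : Spec A ⟶ Spec (CommRingCat.of k)) [LocallyOfFiniteType q] :
    ringKrullDim A = (DimSch.trd k (Over.mk q).left (genericPoint (Spec A)) : WithBot ℕ∞) := by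
  have : LocallyOfFiniteType ((Over.mk q).left ↘ Spec (CommRingCat.of k)) := inferInstanceAs (LocallyOfFiniteType q)
  rw [← K426.DimKit.dim_closure k (Over.mk q).left (genericPoint (Spec A))]
  have h1 : closure {genericPoint (Spec A)} = (Set.univ : Set (Spec A)) := (genericPoint_spec (Spec A))
  have h2 : topologicalKrullDim (closure {genericPoint (Spec A)} : Set (Spec A)) = topologicalKrullDim (Spec A) := by
    rw [h1]
    exact IsHomeomorph.topologicalKrullDim_eq _ (Homeomorph.Set.univ (Spec A)).isHomeomorph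
  exact (h2.trans (PrimeSpectrum.topologicalKrullDim_eq_ringKrullDim A)).symm

theorem exists_slice {T : Over (Spec (CommRingCat.of k))} {A : CommRingCat.{u}} (q : Spec A ⟶ Spec (CommRingCat.of k))
    [LocallyOfFiniteType q] (j : T.left ⟶ Spec A) [IsOpenImmersion j] (hq : j ≫ q = T.hom)
    (p : PrimeSpectrum A) (h : Γ(T.left, ⊤)) (m : T.left) (hm : p.asIdeal ≤ (show PrimeSpectrum A from j m).asIdeal)
    (hh : m ∈ T.left.basicOpen h) :
    ∃ (S : Over (Spec (CommRingCat.of k))) (_ : LocallyOfFiniteType S.hom) (i : S ⟶ T) (_ : IsPreimmersion i.left),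
      ringKrullDim (A ⧸ p.asIdeal) ≤ topologicalKrullDim S.left ∧
      (∀ s, p.asIdeal ≤ (show PrimeSpectrum A from j (i.left s)).asIdeal) ∧ ∀ s, i.left s ∈ T.left.basicOpen h := by
  let Q : CommRingCat.{u} := CommRingCat.of (A ⧸ p.asIdeal)
  let cl : Spec Q ⟶ Spec A := Spec.map (CommRingCat.ofHom (Ideal.Quotient.mk p.asIdeal))
  have hcl : IsClosedImmersion cl := IsClosedImmersion.spec_of_surjective _ Ideal.Quotient.mk_surjective
  have hdom : IsDomain Q := Ideal.Quotient.isDomain p.asIdeal
  have hrange : ∀ x : Spec A, x ∈ Set.range cl ↔ p.asIdeal ≤ (show PrimeSpectrum A from x).asIdeal := by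
    intro x
    have h1 : Set.range cl = PrimeSpectrum.zeroLocus p.asIdeal := by
      have h2 := range_comap_of_surjective Q (Ideal.Quotient.mk p.asIdeal) Ideal.Quotient.mk_surjective
      rw [Ideal.mk_ker] at h2
      exact h2
    rw [h1]
    exact PrimeSpectrum.mem_zeroLocus _ _
  let W := pullback cl j
  let f : W ⟶ Spec Q := pullback.fst cl j
  let g : W ⟶ T.left := pullback.snd cl j
  let O : W.Opens := W.basicOpen (g.appTop h)
  have hO : ∀ w : W, w ∈ O ↔ g w ∈ T.left.basicOpen h := by
    intro w
    have h1 : g ⁻¹ᵁ (T.left.basicOpen h) = O := Scheme.preimage_basicOpen_top g h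
    rw [← h1]
    rfl
  let i : (O : Scheme.{u}) ⟶ T.left := O.ι ≫ g
  have hi : IsPreimmersion i := inferInstance
  let S : Over (Spec (CommRingCat.of k)) := Over.mk (i ≫ T.hom)
  have hT : LocallyOfFiniteType T.hom := by
    rw [← hq]
    infer_instance
  have hS : LocallyOfFiniteType S.hom := by
    change LocallyOfFiniteType ((O.ι ≫ g) ≫ T.hom)
    infer_instance
  refine ⟨S, hS, Over.homMk i rfl, hi, ?_, ?_, ?_⟩
  · obtain ⟨m', hm'⟩ := (hrange (j m)).mpr hm
    obtain ⟨w, hw1, hw2⟩ := Scheme.Pullback.exists_preimage_pullback (f := cl) (g := j) m' m hm'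
    have hwO : w ∈ O := (hO w).mpr (by
      change (pullback.snd cl j) w ∈ _
      rw [hw2]
      exact hh)
    have hne : Nonempty (O : Scheme.{u}) := ⟨⟨w, hwO⟩⟩
    have hW : IsOpenImmersion f := inferInstance
    let f' : (O : Scheme.{u}) ⟶ Spec Q := O.ι ≫ f
    have hf' : IsOpenImmersion f' := inferInstance
    have hint : IsIntegral (Spec Q) := inferInstance
    have hOint : IsIntegral (O : Scheme.{u}) := isIntegral_of_isOpenImmersion f'
    have hgen : f' (genericPoint (O : Scheme.{u})) = genericPoint (Spec Q) := genericPoint_eq_of_isOpenImmersion f'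
    have hclq : LocallyOfFiniteType (cl ≫ q) := inferInstance
    let F : S ⟶ Over.mk (cl ≫ q) := Over.homMk f' (by
      change (O.ι ≫ f) ≫ cl ≫ q = (O.ι ≫ g) ≫ T.hom
      rw [← hq, Category.assoc, Category.assoc, ← Category.assoc f, pullback.condition, Category.assoc])
    have hF : IsPreimmersion F.left := inferInstanceAs (IsPreimmersion f')
    have hclq' : LocallyOfFiniteType (Over.mk (cl ≫ q)).hom := hclq
    have h3 := trd_immersion F (genericPoint (O : Scheme.{u}))
    have h4 : (DimSch.trd k (Over.mk (cl ≫ q)).left (F.left (genericPoint (O : Scheme.{u}))) : WithBot ℕ∞) =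
        ringKrullDim Q := by
      rw [ringKrullDim_eq_trd (cl ≫ q)]
      exact congrArg (fun z => (DimSch.trd k (Over.mk (cl ≫ q)).left z : WithBot ℕ∞)) hgen
    change ringKrullDim Q ≤ _
    rw [← h4, ← h3]
    exact trd_le_dim S _
  · intro s
    rw [← hrange]
    refine ⟨f (O.ι s), ?_⟩
    change _ = j (g (O.ι s))
    rw [← Scheme.Hom.comp_apply, ← Scheme.Hom.comp_apply, pullback.condition]
    rfl
  · intro s
    exact (hO _).mp s.2

end K393.SliceCore
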