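import Groth.Agent.Fano.K393.Slice

/-!
# The slice, in the form used by the final assembly of S16940
-/

set_option autoImplicit false
set_option backward.isDefEq.respectTransparency false
set_option backward.isDefEq.respectTransparency.types false

universe u

open CategoryTheory CategoryTheory.Limits AlgebraicGeometry TopologicalSpace

namespace K393.SliceFin

open Groth.Agent Groth.Agent.VarietyB
open K188.LineDef K505.KonDef K239.HonDef K393.ObjChart W4swstmapratcurves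

variable {k : Type u} [Field k] [IsAlgClosed k] {n d r e : ℕ}

theorem le_of_add_four_le {D : ℕ} {x : WithBot ℕ∞} (h : ((D + 4 : ℕ) : WithBot ℕ∞) ≤ x + (4 : ℕ)) : (D : WithBot ℕ∞) ≤ x := by
  induction x using WithBot.recBotCoe with
  | bot =>
    rw [WithBot.bot_add] at h
    exact absurd (le_bot_iff.mp h) (WithBot.coe_ne_bot (a := ((D + 4 : ℕ) : ℕ∞)))
  | coe y =>
    have h0 : (((D + 4 : ℕ) : ℕ∞) : WithBot ℕ∞) ≤ ((y + ((4 : ℕ) : ℕ∞) : ℕ∞) : WithBot ℕ∞) := h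
    have h1 : ((D + 4 : ℕ) : ℕ∞) ≤ y + ((4 : ℕ) : ℕ∞) := WithBot.coe_le_coe.mp h0
    have h2 : (D : ℕ∞) ≤ y := by
      rw [Nat.cast_add] at h1
      exact (ENat.add_le_add_iff_right (ENat.natCast_ne_top 4)).mp h1
    exact (WithBot.coe_le_coe.mpr h2 : ((D : ℕ∞) : WithBot ℕ∞) ≤ (y : WithBot ℕ∞))

/-- `K723.HonIn.SliceP G r e`, unfolded. -/
theorem sliceP (G : LefPen.Form n k d) (r : ℕ) {e : ℕ} (he : 1 ≤ e)
    (h𝒳 : FibCat.IsFibGrpd (Mst G r e).p) (hi : IsPre (B0 k r)) (hp : ProdB0 k r) (o : Oe G (QO k r).hom e) (ho : OeStab o)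
    (Un : Univ (l0 (hi := hi) (hp := hp) o ho)) (D : ℕ)
    (H : ∀ (s : ℕ) (a : Fin s → (l0 (hi := hi) (hp := hp) o ho).RV) (m : PrimeSpectrum (l0 (hi := hi) (hp := hp) o ho).RV),
      (∀ i, a i ∈ m.asIdeal) → ∃ p : PrimeSpectrum (l0 (hi := hi) (hp := hp) o ho).RV, p ≤ m ∧ (∀ i, a i ∈ p.asIdeal) ∧
        ((D + 4 : ℕ) : WithBot ℕ∞) ≤ ringKrullDim ((l0 (hi := hi) (hp := hp) o ho).RV ⧸ p.asIdeal) + s)
    (a b : Fin (n + 1) → k) (hab : LinearIndependent k ![a, b]) (hG : ∀ s t : k, MvPolynomial.eval (s • a + t • b) G.1 = 0) :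
    ∃ (S : Scheme.{u}) (_ : S.Over (Spec (CommRingCat.of k))) (_ : LocallyOfFiniteType (S ↘ Spec (CommRingCat.of k)))
      (j : S ⟶ ((Mst G r e).p.obj Un.A).left), (D : WithBot ℕ∞) ≤ topologicalKrullDim S ∧
      (∀ s : S, ∃ q : ((Mst G r e).p.obj Un.A).left, cls h𝒳 Un.A q = cls h𝒳 Un.A (j s) ∧
        DimSch.trd k S s + 4 ≤ DimSch.trd k ((Mst G r e).p.obj Un.A).left q) ∧
      ∀ s : S, DimSch.trd k ((Mst G r e).p.obj Un.A).left (j s) ≤ DimSch.trd k S s := by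
  obtain ⟨S, hS, i, h1, h2, h3⟩ := K393.Slice.exists_slice Un h𝒳 he hab hG D fun f m hm => by
    obtain ⟨p, hp1, hp2, hp3⟩ := H 4 f m hm
    exact ⟨p, hp1, hp2, le_of_add_four_le hp3⟩
  exact ⟨S.left, inferInstance, hS, i.left, h1, h2, h3⟩

end K393.SliceFin
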