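import Groth.Agent.Fano.K393.Roof
import Groth.Agent.Fano.K393.DimTop
import Groth.Agent.AlgSt.K736.QC
import Groth.Agent.S2768

/-!
# Irreducibility and dimension of the space of points of a stack over a field

The stack `𝒳` over `Spec k` is only required to be fibred in groupoids, with enough charts.

* `K393.StDim.continuous_ofChart`, `isOpenMap_ofChart`: smooth charts give continuous open maps.
* `K393.StDim.quasiSober`: `|𝒳|` is quasi-sober when it has enough smooth charts locally of finite type over `k`.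
* `K393.StDim.topologicalKrullDim_eq_iSup`: with étale charts `U i`, the dimension of `|𝒳|` is `sup dim (U i)`.
* `K393.StDim.irreducible_and_dim`: with étale charts `U i` and one smooth chart `W` of relative dimension `m`
  which is irreducible and has dense image, `|𝒳|` is irreducible and `dim |𝒳| + m = dim W`.
-/

set_option autoImplicit false
set_option backward.isDefEq.respectTransparency false
set_option backward.isDefEq.respectTransparency.types false

universe w v₂ u₂ v u

open CategoryTheory CategoryTheory.Limits AlgebraicGeometry Opposite TopologicalSpace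

namespace K393.StDim

open AlgSt K735.Fib K735.Fp K735.Rep K735.Pts K743.Pt

section General

variable {S : Scheme.{u}} {𝒳 : BasedCategory.{v₂, u₂} (Over S)}

theorem locP_mono {P Q : MorphismProperty Scheme.{u}} (h : ∀ ⦃X Y : Scheme.{u}⦄ (f : X ⟶ Y), P f → Q f)
    {F G : AlgSp.Sp S} {f : F ⟶ G} (hf : AlgSp.LocP P f) : AlgSp.LocP Q f :=
  fun _ _ a b g ha hb comm => h _ (hf a b g ha hb comm)

theorem repWith_mono {P Q : MorphismProperty Scheme.{u}} (h : ∀ ⦃X Y : Scheme.{u}⦄ (f : X ⟶ Y), P f → Q f)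
    {𝒴 : BasedCategory.{v₂, u₂} (Over S)} {V : Over S} {x : FibCat.overCat V ⥤ᵇ 𝒴}
    (hx : AlgSt.RepByAlgSpWith (AlgSp.LocP P) x) : AlgSt.RepByAlgSpWith (AlgSp.LocP Q) x := by
  intro U y
  obtain ⟨F, e, he, hP⟩ := hx U y
  exact ⟨F, e, he, locP_mono h hP⟩

theorem continuous_ofChart {V : Over S} {x : FibCat.overCat V ⥤ᵇ 𝒳}
    (hx : AlgSt.RepByAlgSpWith (AlgSp.LocP @Smooth) x) : Continuous (Points.ofChart x) :=
  ⟨fun _ hW => hW V x hx⟩

theorem isOpenMap_ofChart (h𝒳 : FibCat.IsFibGrpd 𝒳.p) {V : Over S} {x : FibCat.overCat V ⥤ᵇ 𝒳}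
    (hx : AlgSt.RepByAlgSpWith (AlgSp.LocP @Smooth) x) : IsOpenMap (Points.ofChart x) :=
  K735.Top.isOpenMap_ofChart x (K735.Top.isOpenMap_map K735.Top.isOpenMap_of_smooth h𝒳
    (K736.Fib.isFibGrpd_overCat V) (K735.Top.chartCont_overCat V) hx)

theorem etale_smooth ⦃X Y : Scheme.{u}⦄ (f : X ⟶ Y) (hf : Etale f) : Smooth f := inferInstance

theorem relDim_smooth {m : ℕ} ⦃X Y : Scheme.{u}⦄ (f : X ⟶ Y) (hf : SmoothOfRelativeDimension m f) : Smooth f :=
  SmoothOfRelativeDimension.smooth m f

end General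

section Field

variable {k : Type u} [Field k] {𝒳 : BasedCategory.{v₂, u₂} (Over (Spec (CommRingCat.of k)))}
  {ι : Type w} {U : ι → Over (Spec (CommRingCat.of k))} {x : ∀ i, FibCat.overCat (U i) ⥤ᵇ 𝒳}

theorem quasiSober (h𝒳 : FibCat.IsFibGrpd 𝒳.p) (hU : ∀ i, LocallyOfFiniteType (U i).hom)
    (hx : ∀ i, AlgSt.RepByAlgSpWith (AlgSp.LocP @Smooth) (x i))
    (hs : ∀ p : Points 𝒳, ∃ i, ∃ u, Points.ofChart (x i) u = p) : QuasiSober (Points 𝒳) := by
  have : ∀ i, IsLocallyNoetherian (U i).left := fun i => LocallyOfFiniteType.isLocallyNoetherian (U i).hom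
  exact K393.OpenMap.quasiSober (V := fun i => (U i).left) (π := fun i => Points.ofChart (x i))
    (fun i => continuous_ofChart (hx i)) (fun i => isOpenMap_ofChart h𝒳 (hx i)) hs

/-- Étale charts have no specializations between points with the same image. -/
theorem eq_of_specializes (h𝒳 : FibCat.IsFibGrpd 𝒳.p) {V : Over (Spec (CommRingCat.of k))} [LocallyOfFiniteType V.hom]
    {y : FibCat.overCat V ⥤ᵇ 𝒳} (hy : AlgSt.RepByAlgSpWith (AlgSp.LocP @Etale) y) {a b : V.left} (h : a ⤳ b)
    (hab : Points.ofChart y a = Points.ofChart y b) : a = b := by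
  obtain ⟨Z, p, q, hp, hq, hZ⟩ := K393.Roof.exists_roof h𝒳 hy hy
  obtain ⟨z, hz1, hz2⟩ := (hZ a b).mp hab
  exact K393.DimTop.eq_of_specializes V.hom h p.left q.left ((Over.w p).trans (Over.w q).symm) z hz1 hz2

theorem topologicalKrullDim_eq_iSup (h𝒳 : FibCat.IsFibGrpd 𝒳.p) [T0Space (Points 𝒳)]
    (hU : ∀ i, LocallyOfFiniteType (U i).hom) (hx : ∀ i, AlgSt.RepByAlgSpWith (AlgSp.LocP @Etale) (x i))
    (hs : ∀ p : Points 𝒳, ∃ i, ∃ u, Points.ofChart (x i) u = p) :
    topologicalKrullDim (Points 𝒳) = ⨆ i, topologicalKrullDim (U i).left := by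
  have : ∀ i, IsLocallyNoetherian (U i).left := fun i => LocallyOfFiniteType.isLocallyNoetherian (U i).hom
  exact K393.OpenMap.topologicalKrullDim_eq (V := fun i => (U i).left) (π := fun i => Points.ofChart (x i))
    (fun i => continuous_ofChart (repWith_mono etale_smooth (hx i)))
    (fun i => isOpenMap_ofChart h𝒳 (repWith_mono etale_smooth (hx i))) hs
    (fun i _ _ h h' => eq_of_specializes h𝒳 (hx i) h h')

/-- Irreducibility and dimension: `U i` étale charts (jointly surjective), `W` one irreducible smooth chart of relative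
dimension `m` with dense image. -/
theorem irreducible_and_dim (h𝒳 : FibCat.IsFibGrpd 𝒳.p) [T0Space (Points 𝒳)]
    (hU : ∀ i, LocallyOfFiniteType (U i).hom) (hx : ∀ i, AlgSt.RepByAlgSpWith (AlgSp.LocP @Etale) (x i))
    (hs : ∀ p : Points 𝒳, ∃ i, ∃ u, Points.ofChart (x i) u = p)
    {W : Over (Spec (CommRingCat.of k))} [LocallyOfFiniteType W.hom] [IrreducibleSpace W.left]
    {y : FibCat.overCat W ⥤ᵇ 𝒳} (m : ℕ) (hy : AlgSt.RepByAlgSpWith (AlgSp.LocP (@SmoothOfRelativeDimension m)) y)
    (hd : DenseRange (Points.ofChart y)) :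
    IrreducibleSpace (Points 𝒳) ∧ topologicalKrullDim (Points 𝒳) + m = topologicalKrullDim W.left := by
  refine K393.DimTop.irreducible_and_dim (U := fun i => (U i).left) (fun i => (U i).hom)
    (π := fun i => Points.ofChart (x i)) (fun i => continuous_ofChart (repWith_mono etale_smooth (hx i)))
    (fun i => isOpenMap_ofChart h𝒳 (repWith_mono etale_smooth (hx i))) hs
    (fun i _ _ h h' => eq_of_specializes h𝒳 (hx i) h h') W.hom
    (continuous_ofChart (repWith_mono relDim_smooth hy)) hd m fun i => ?_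
  obtain ⟨Z, p, q, hp, hq, hZ⟩ := K393.Roof.exists_roof h𝒳 (hx i) hy
  refine ⟨Z.left, p.left, q.left, ?_, fun z => ?_, hq, (Over.w p).trans (Over.w q).symm, fun u w => (hZ u w).mp⟩
  · have := relDim_smooth p.left hp
    infer_instance
  · exact Groth.Agent.S2768.result m p.left z

end Field

end K393.StDim
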